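import Mathlib
import Cfsg.Agent.Lib.Helper1.PMChk
import Cfsg.Agent.Lib.Helper1.SetAct
import Cfsg.Agent.Lib.Helper6.Mult.PM5

set_option autoImplicit false
set_option maxRecDepth 100000

/-! General lemmas for the computation of the multiplier of the Rudvalis group: lower bounds of
orders from chains, subgroups of index two, perfect groups from relations, inverse words, families
of sets given by packed lists. -/

namespace Cfsg.Agent.Lib.Helper1.RuMu

open Cfsg Cfsg.Agent.Lib.Helper1 Cfsg.Agent.Lib.Helper1.MatCode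
open Cfsg.Agent.Lib.Helper6.TC Cfsg.Agent.Lib.Helper6.PM Cfsg.Agent.Lib.Helper2.PMS
open Cfsg.Agent.Lib.Helper5.Chain Cfsg.Agent.Lib.Helper5.Srch Cfsg.Agent.Lib.Helper1.PMChk
  Cfsg.Agent.Lib.Helper1.SetAct

open scoped Pointwise

/-- a chain gives a lower bound for the order -/
theorem card_ge_chain (M : PModel) (bs : List ℕ) (Ls : List (List (List ℕ)))
    (hc : IsChain M.px bs Ls) (hb : ∀ b ∈ bs, b < M.n)
    (hl : ∀ Lj ∈ Ls, ∀ w ∈ Lj, ∀ c ∈ w, c < M.nl) :
    (Ls.map List.length).prod ≤ Nat.card M.G := by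
  classical
  haveI : Fintype M.G := Fintype.ofFinite M.G
  have hnd := prods_nodup M bs Ls hc
  have hinj : ∀ u ∈ prods Ls, ∀ u' ∈ prods Ls, M.elt u = M.elt u' → u = u' := by
    intro u hu u' hu' h
    apply prods_inj M bs Ls hc hb hl u hu u' hu'
    intro b hb'
    have hlu := letters_prods M.nl Ls hl u hu
    have hlu' := letters_prods M.nl Ls hl u' hu'
    have h1 := M.phi_inv_val u hlu ⟨b, hb b hb'⟩
    have h2 := M.phi_inv_val u' hlu' ⟨b, hb b hb'⟩
    rw [h] at h1
    exact h1.symm.trans h2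
  have hnd2 : ((prods Ls).map M.elt).Nodup := by
    rw [List.nodup_map_iff_inj_on hnd]
    exact hinj
  have := hnd2.length_le_card
  rw [List.length_map, length_prods] at this
  rw [Nat.card_eq_fintype_card]
  exact this

/-- a subgroup of a group of order `2 * c`, of order at least `c`, not the whole group, has
order `c` -/
theorem card_eq_of_ge_of_ne {G : Type*} [Group G] (K H : Subgroup G) [Finite K] (hle : H ≤ K)
    (hne : H ≠ K) (c : ℕ) (hK : Nat.card K = 2 * c) (hge : c ≤ Nat.card H) :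
    Nat.card H = c := by
  have hKpos : 0 < Nat.card K := Nat.card_pos
  have hc0 : 0 < c := by omega
  have h2 : Nat.card H ∣ Nat.card K := Subgroup.card_dvd_of_le hle
  obtain ⟨d, hd⟩ := h2
  rw [hK] at hd
  have hHpos : 0 < Nat.card H := by omega
  have hd0 : 0 < d := by
    rcases Nat.eq_zero_or_pos d with h | h
    · rw [h, mul_zero] at hd; omega
    · exact h
  have hd2 : d ≤ 2 := by
    by_contra hgt
    have h3 : 3 ≤ d := by omega
    have : Nat.card H * 3 ≤ Nat.card H * d := Nat.mul_le_mul_left _ h3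
    omega
  have hd12 : d = 1 ∨ d = 2 := by omega
  rcases hd12 with rfl | rfl
  · exfalso
    apply hne
    haveI : Finite H := Finite.of_injective (Subgroup.inclusion hle) (Subgroup.inclusion_injective hle)
    apply Subgroup.eq_of_le_of_card_ge hle
    rw [hK, hd, mul_one]
  · omega

/-! ### Perfect groups from relations -/

theorem wordProd_comm_cnt {A : Type*} [CommGroup A] (x y : A) (w : List ℕ)
    (hw : ∀ i ∈ w, i < 2) : wordProd [x, y] w = x ^ (w.count 0) * y ^ (w.count 1) := by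
  induction w with
  | nil => simp [wordProd_nil]
  | cons i w ih =>
    have hi : i < 2 := hw i (by simp)
    rw [wordProd_cons, ih (fun i' hi' => hw i' (by simp [hi']))]
    interval_cases i
    · simp only [List.getD_cons_zero, List.count_cons_self, List.count_cons_of_ne (by decide : (0 : ℕ) ≠ 1)]
      rw [pow_succ', mul_assoc]
    · simp only [List.getD_cons_succ, List.getD_cons_zero, List.count_cons_self,
        List.count_cons_of_ne (by decide : (1 : ℕ) ≠ 0)]
      rw [pow_succ', mul_left_comm]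

theorem map_wordProd_pair {G A : Type*} [Group G] [Group A] (f : G →* A) (x y : G) (w : List ℕ) :
    f (wordProd [x, y] w) = wordProd [f x, f y] w := by
  induction w with
  | nil => rw [wordProd_nil, wordProd_nil, map_one]
  | cons i w ih =>
    rw [wordProd_cons, wordProd_cons, map_mul, ih]
    congr 1
    rcases i with _ | _ | i
    · rfl
    · rfl
    · simp only [List.getD_cons_succ, List.getD_nil, map_one]

theorem eq_one_of_zpow_coprime {A : Type*} [Group A] (X : A) (n : ℕ) (k : ℤ) (hn : X ^ n = 1)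
    (hk : X ^ k = 1) (hco : IsCoprime k (n : ℤ)) : X = 1 := by
  obtain ⟨u, v, huv⟩ := hco
  have h1 : X ^ (u * k + v * (n : ℤ)) = 1 := by
    rw [zpow_add, mul_comm u k, mul_comm v (n : ℤ), zpow_mul, zpow_mul, hk, zpow_natCast, hn,
      one_zpow, one_zpow, one_mul]
  rw [huv, zpow_one] at h1
  exact h1

/-- a group generated by two elements of order dividing `n`, with two relations whose exponent
sums are independent modulo the prime divisors of `n`, is perfect -/
theorem perfect_of_two_rels {G : Type*} [Group G] (x y : G) (n : ℕ)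
    (hgen : Subgroup.closure {g | ∃ i < 2, g = [x, y].getD i 1} = ⊤) (hx : x ^ n = 1)
    (hy : y ^ n = 1) (r1 r2 : List ℕ × List ℕ)
    (hr1 : wordProd [x, y] r1.1 = wordProd [x, y] r1.2)
    (hr2 : wordProd [x, y] r2.1 = wordProd [x, y] r2.2)
    (hl : (∀ i ∈ r1.1, i < 2) ∧ (∀ i ∈ r1.2, i < 2) ∧ (∀ i ∈ r2.1, i < 2) ∧ (∀ i ∈ r2.2, i < 2))
    (hdet : IsCoprime
      ((((r1.1.count 0 : ℕ) : ℤ) - (r1.2.count 0 : ℕ)) * (((r2.1.count 1 : ℕ) : ℤ) - (r2.2.count 1 : ℕ)) -
        (((r1.1.count 1 : ℕ) : ℤ) - (r1.2.count 1 : ℕ)) * (((r2.1.count 0 : ℕ) : ℤ) - (r2.2.count 0 : ℕ)))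
      (n : ℤ)) :
    commutator G = ⊤ := by
  let π : G →* Abelianization G := Abelianization.of
  obtain ⟨hl1, hl2, hl3, hl4⟩ := hl
  have e1 := congrArg π hr1
  have e2 := congrArg π hr2
  rw [map_wordProd_pair, map_wordProd_pair, wordProd_comm_cnt _ _ _ hl1,
    wordProd_comm_cnt _ _ _ hl2] at e1
  rw [map_wordProd_pair, map_wordProd_pair, wordProd_comm_cnt _ _ _ hl3,
    wordProd_comm_cnt _ _ _ hl4] at e2
  set X := π x with hX
  set Y := π y with hY
  set a : ℤ := ((r1.1.count 0 : ℕ) : ℤ) - (r1.2.count 0 : ℕ) with ha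
  set b : ℤ := ((r1.1.count 1 : ℕ) : ℤ) - (r1.2.count 1 : ℕ) with hb
  set c : ℤ := ((r2.1.count 0 : ℕ) : ℤ) - (r2.2.count 0 : ℕ) with hc
  set d : ℤ := ((r2.1.count 1 : ℕ) : ℤ) - (r2.2.count 1 : ℕ) with hd
  have hXn : X ^ n = 1 := by rw [hX, ← map_pow, hx, map_one]
  have hYn : Y ^ n = 1 := by rw [hY, ← map_pow, hy, map_one]
  have f1 : X ^ a * Y ^ b = 1 := by
    rw [ha, hb, zpow_sub, zpow_sub, zpow_natCast, zpow_natCast, zpow_natCast, zpow_natCast]
    have : X ^ r1.1.count 0 * Y ^ r1.1.count 1 * (X ^ r1.2.count 0 * Y ^ r1.2.count 1)⁻¹ = 1 := by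
      rw [e1, mul_inv_cancel]
    rw [← this, mul_inv]
    ac_rfl
  have f2 : X ^ c * Y ^ d = 1 := by
    rw [hc, hd, zpow_sub, zpow_sub, zpow_natCast, zpow_natCast, zpow_natCast, zpow_natCast]
    have : X ^ r2.1.count 0 * Y ^ r2.1.count 1 * (X ^ r2.2.count 0 * Y ^ r2.2.count 1)⁻¹ = 1 := by
      rw [e2, mul_inv_cancel]
    rw [← this, mul_inv]
    ac_rfl
  have gX : X ^ (a * d - b * c) = 1 := by
    have h1 : (X ^ a * Y ^ b) ^ d * ((X ^ c * Y ^ d) ^ b)⁻¹ = 1 := by
      rw [f1, f2, one_zpow, one_zpow, inv_one, mul_one]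
    rw [mul_zpow, mul_zpow, ← zpow_mul, ← zpow_mul, ← zpow_mul, ← zpow_mul, mul_inv] at h1
    rw [zpow_sub, mul_comm b c, ← h1, mul_comm d b]
    have : Y ^ (b * d) * (Y ^ (b * d))⁻¹ = 1 := mul_inv_cancel _
    calc X ^ (a * d) * (X ^ (c * b))⁻¹ = X ^ (a * d) * (X ^ (c * b))⁻¹ * (Y ^ (b * d) * (Y ^ (b * d))⁻¹) := by
          rw [this, mul_one]
      _ = _ := by ac_rfl
  have gY : Y ^ (a * d - b * c) = 1 := by
    have h1 : (X ^ c * Y ^ d) ^ a * ((X ^ a * Y ^ b) ^ c)⁻¹ = 1 := by
      rw [f1, f2, one_zpow, one_zpow, inv_one, mul_one]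
    rw [mul_zpow, mul_zpow, ← zpow_mul, ← zpow_mul, ← zpow_mul, ← zpow_mul, mul_inv] at h1
    rw [zpow_sub, mul_comm a d, ← h1, mul_comm c a]
    have : X ^ (a * c) * (X ^ (a * c))⁻¹ = 1 := mul_inv_cancel _
    calc Y ^ (d * a) * (Y ^ (b * c))⁻¹ = Y ^ (d * a) * (Y ^ (b * c))⁻¹ * (X ^ (a * c) * (X ^ (a * c))⁻¹) := by
          rw [this, mul_one]
      _ = _ := by ac_rfl
  have hX1 : X = 1 := eq_one_of_zpow_coprime X n _ hXn gX hdet
  have hY1 : Y = 1 := eq_one_of_zpow_coprime Y n _ hYn gY hdet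
  have hker : ∀ g : G, π g = 1 → g ∈ commutator G := by
    intro g hg
    exact (QuotientGroup.eq_one_iff (N := commutator G) g).mp hg
  rw [eq_top_iff, ← hgen, Subgroup.closure_le]
  rintro g ⟨i, hi, rfl⟩
  interval_cases i
  · exact hker _ hX1
  · exact hker _ hY1

/-! ### Inverse words -/

/-- the inverse word, for an involution of the letters -/
def invWord (ι : ℕ → ℕ) (w : List ℕ) : List ℕ := (w.map ι).reverse

theorem invWord_lt (ι : ℕ → ℕ) (nl : ℕ) (hι : ∀ c < nl, ι c < nl) (w : List ℕ)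
    (hw : ∀ c ∈ w, c < nl) : ∀ c ∈ invWord ι w, c < nl := by
  intro c hc
  unfold invWord at hc
  rw [List.mem_reverse, List.mem_map] at hc
  obtain ⟨c', hc', rfl⟩ := hc
  exact hι c' (hw c' hc')

theorem elt_letter_mul (M : PModel) (ι : ℕ → ℕ) (hι : ∀ c < M.nl, ι c < M.nl)
    (hinv : ∀ c < M.nl, ∀ q < M.n, M.px (ι c) (M.px c q) = q) (c : ℕ) (hc : c < M.nl) :
    M.elt [c] * M.elt [ι c] = 1 := by
  rw [← M.elt_append, ← M.elt_nil]
  apply M.elt_eq_of_wapp
  · intro x hx
    simp only [List.cons_append, List.nil_append, List.mem_cons, List.not_mem_nil, or_false] at hx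
    rcases hx with rfl | rfl
    · exact hc
    · exact hι c hc
  · intro x hx; simp at hx
  · intro q hq
    show M.px (ι c) (M.px c q) = q
    exact hinv c hc q hq

/-- the element of the inverse word is the inverse -/
theorem elt_invWord (M : PModel) (ι : ℕ → ℕ) (hι : ∀ c < M.nl, ι c < M.nl)
    (hinv : ∀ c < M.nl, ∀ q < M.n, M.px (ι c) (M.px c q) = q) (w : List ℕ)
    (hw : ∀ c ∈ w, c < M.nl) : M.elt (invWord ι w) = (M.elt w)⁻¹ := by
  induction w with
  | nil =>
    show M.elt [] = (M.elt [])⁻¹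
    rw [M.elt_nil, inv_one]
  | cons c w ih =>
    have hc : c < M.nl := hw c List.mem_cons_self
    have e : invWord ι (c :: w) = invWord ι w ++ [ι c] := by
      unfold invWord
      rw [List.map_cons, List.reverse_cons]
    rw [e, M.elt_append, ih (fun c' hc' => hw c' (List.mem_cons_of_mem _ hc')), M.elt_cons c w,
      mul_inv_rev]
    congr 1
    exact eq_inv_of_mul_eq_one_right (elt_letter_mul M ι hι hinv c hc)

/-- the tables of the action of the element of a word and of its inverse -/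
theorem word_tables (M : PModel) (ι : ℕ → ℕ) (hι : ∀ c < M.nl, ι c < M.nl)
    (hinv : ∀ c < M.nl, ∀ q < M.n, M.px (ι c) (M.px c q) = q) (w : List ℕ)
    (hw : ∀ c ∈ w, c < M.nl) :
    (∀ p : Fin M.n, ((M.elt w)⁻¹ • p).val = wapp M.px w p.val) ∧
      (∀ p : Fin M.n, (M.elt w • p).val = wapp M.px (invWord ι w) p.val) := by
  refine ⟨fun p => M.inv_elt_smul_val w hw p, fun p => ?_⟩
  have h := M.inv_elt_smul_val (invWord ι w) (invWord_lt ι M.nl hι w hw) p
  rw [elt_invWord M ι hι hinv w hw, inv_inv] at h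
  exact h

/-! ### Families of sets -/

section fam

variable (M : PModel) (b r : ℕ) (SL : ℕ → ℕ) (m : ℕ)

/-- the family of the sets of the packed lists -/
def famL : Set (Set (Fin M.n)) := {S | ∃ j < m, S = ptL M b r (SL j)}

theorem famL_finite : (famL M b r SL m).Finite := by
  have : famL M b r SL m = (fun j => ptL M b r (SL j)) '' {j | j < m} := by
    ext S
    constructor
    · rintro ⟨j, hj, rfl⟩
      exact ⟨j, hj, rfl⟩
    · rintro ⟨j, hj, rfl⟩
      exact ⟨j, hj, rfl⟩
  rw [this]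
  exact (Set.finite_lt_nat m).image _

/-- an element permuting the sets stabilizes the family -/
theorem mem_stabilizer_famL (g : M.G) (pi : ℕ → ℕ) (hpi : ∀ j < m, pi j < m)
    (h : ∀ j < m, g • ptL M b r (SL j) = ptL M b r (SL (pi j))) :
    g ∈ MulAction.stabilizer M.G (famL M b r SL m) := by
  rw [MulAction.mem_stabilizer_set' (famL_finite M b r SL m)]
  rintro _ ⟨j, hj, rfl⟩
  exact ⟨pi j, hpi j hj, h j hj⟩

/-- an element moving a set of the family to a set outside of the family -/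
theorem not_mem_stabilizer_famL (g : M.G) (LB : ℕ) (hm : 0 < m)
    (hg : g • ptL M b r (SL 0) = ptL M b r LB)
    (hne : ∀ j < m, maskOf b LB r % 2 ^ M.n ≠ maskOf b (SL j) r % 2 ^ M.n) :
    g ∉ MulAction.stabilizer M.G (famL M b r SL m) := by
  intro h
  rw [MulAction.mem_stabilizer_set' (famL_finite M b r SL m)] at h
  obtain ⟨j, hj, e⟩ := h ⟨0, hm, rfl⟩
  rw [hg] at e
  exact ptL_ne M b r _ _ (hne j hj) e

/-- the check of the ranks of the sets in the order of their masks -/
def chkRnk (ord rnk : ℕ → ℕ) : Bool :=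
  (List.range m).all fun j => ord (rnk j) == j && decide (rnk j < m)

/-- the check that the masks of the sets increase, on a range -/
def chkIncR (n : ℕ) (ord : ℕ → ℕ) (lo len : ℕ) : Bool :=
  (List.range' lo len).all fun t =>
    withNat (maskOf b (SL (ord t)) r % 2 ^ n) fun x =>
      withNat (maskOf b (SL (ord (t + 1))) r % 2 ^ n) fun y => decide (x < y)

theorem step_of_chkIncR (n : ℕ) (ord : ℕ → ℕ) (lo len : ℕ)
    (h : chkIncR b r SL n ord lo len = true) (t : ℕ) (hlo : lo ≤ t) (ht : t < lo + len) :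
    maskOf b (SL (ord t)) r % 2 ^ n < maskOf b (SL (ord (t + 1))) r % 2 ^ n := by
  unfold chkIncR at h
  rw [List.all_eq_true] at h
  have := h t (by rw [List.mem_range'_1]; exact ⟨hlo, ht⟩)
  rw [withNat_eq, withNat_eq, decide_eq_true_eq] at this
  exact this

theorem mask_inj_of_steps (n : ℕ) (ord rnk : ℕ → ℕ) (h1 : chkRnk m ord rnk = true)
    (hstep : ∀ t, t + 1 < m →
      maskOf b (SL (ord t)) r % 2 ^ n < maskOf b (SL (ord (t + 1))) r % 2 ^ n) :
    ∀ j < m, ∀ j' < m, maskOf b (SL j) r % 2 ^ n = maskOf b (SL j') r % 2 ^ n → j = j' := by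
  unfold chkRnk at h1
  rw [List.all_eq_true] at h1
  have hmono : ∀ d t, t + d + 1 < m →
      maskOf b (SL (ord t)) r % 2 ^ n < maskOf b (SL (ord (t + d + 1))) r % 2 ^ n := by
    intro d
    induction d with
    | zero => intro t ht; exact hstep t ht
    | succ d ih =>
      intro t ht
      exact lt_trans (ih t (by omega)) (by
        have := hstep (t + d + 1) (by omega)
        exact this)
  have hlt : ∀ t t', t < t' → t' < m →
      maskOf b (SL (ord t)) r % 2 ^ n < maskOf b (SL (ord t')) r % 2 ^ n := by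
    intro t t' htt ht'
    obtain ⟨d, rfl⟩ : ∃ d, t' = t + d + 1 := ⟨t' - t - 1, by omega⟩
    exact hmono d t ht'
  intro j hj j' hj' e
  have a1 := h1 j (List.mem_range.mpr hj)
  have a2 := h1 j' (List.mem_range.mpr hj')
  rw [Bool.and_eq_true, beq_iff_eq, decide_eq_true_eq] at a1 a2
  rw [← a1.1, ← a2.1] at e ⊢
  rcases Nat.lt_trichotomy (rnk j) (rnk j') with hlt' | heq | hgt
  · exact absurd e (Nat.ne_of_lt (hlt _ _ hlt' a2.2))
  · rw [heq]
  · exact absurd e.symm (Nat.ne_of_lt (hlt _ _ hgt a1.2))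

/-- the sets are distinct -/
theorem ptL_inj_of_masks
    (h : ∀ j < m, ∀ j' < m,
      maskOf b (SL j) r % 2 ^ M.n = maskOf b (SL j') r % 2 ^ M.n → j = j') :
    ∀ j < m, ∀ j' < m, ptL M b r (SL j) = ptL M b r (SL j') → j = j' := by
  intro j hj j' hj' e
  apply h j hj j' hj'
  rw [ptL_eq_maskSet, ptL_eq_maskSet] at e
  exact maskSet_injective M _ _ e

end fam

end Cfsg.Agent.Lib.Helper1.RuMu
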