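import Mathlib
import Cfsg.Agent.Lib.Helper1.RuM2
import Cfsg.Agent.Lib.Helper1.RuMu.Lem
import Cfsg.Agent.Lib.Helper1.RuMu.RUTDS

set_option autoImplicit false
set_option maxRecDepth 100000

/-! The Rudvalis group on 4060 points: the checks of the generators, of the relations and of the
points for the labelled action. -/

namespace Cfsg.Agent.Lib.Helper1.RuMu

open Cfsg Cfsg.Agent.Lib.Helper1 Cfsg.Agent.Lib.Helper1.MatCode
open Cfsg.Agent.Lib.Helper6.TC Cfsg.Agent.Lib.Helper6.PM
open Cfsg.Agent.Lib.Helper1.RuM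

theorem chk_tabRUT_0 : chkTab ruM0 wsRUT RuM.px 0 = true := by decide +kernel

theorem chk_tabRUT_1 : chkTab ruM0 wsRUT RuM.px 1 = true := by decide +kernel

theorem chk_relPRUT_0 : chkRelP ruM0 DRUT RuM.px 0 = true := by decide +kernel

theorem chk_relPRUT_1 : chkRelP ruM0 DRUT RuM.px 1 = true := by decide +kernel

theorem chk_relPRUT_2 : chkRelP ruM0 DRUT RuM.px 2 = true := by decide +kernel

theorem chk_relPRUT_3 : chkRelP ruM0 DRUT RuM.px 3 = true := by decide +kernel

theorem chk_ordPRUT_0 : chkOrdP ruM0 DRUT RuM.px 0 = true := by decide +kernel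

theorem chk_ordPRUT_1 : chkOrdP ruM0 DRUT RuM.px 1 = true := by decide +kernel

theorem chk_lwPRUT_0 : chkLwP ruM0 wsRUT RuM.px lwRUT 0 = true := by decide +kernel

theorem chk_lwPRUT_1 : chkLwP ruM0 wsRUT RuM.px lwRUT 1 = true := by decide +kernel

theorem chk_lwPRUT_2 : chkLwP ruM0 wsRUT RuM.px lwRUT 2 = true := by decide +kernel

theorem chk_lwPRUT_3 : chkLwP ruM0 wsRUT RuM.px lwRUT 3 = true := by decide +kernel

theorem coreRUT : CoreFacts ruM0 DRUT wsRUT RuM.px lwRUT := by
  apply coreFacts_of_chk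
  · rfl
  · intro i hi
    have h' : i < 2 := hi
    interval_cases i
    · exact chk_tabRUT_0
    · exact chk_tabRUT_1
  · intro r hr
    have h' : r < 4 := hr
    interval_cases r
    · exact chk_relPRUT_0
    · exact chk_relPRUT_1
    · exact chk_relPRUT_2
    · exact chk_relPRUT_3
  · intro i hi
    have h' : i < 2 := hi
    interval_cases i
    · exact chk_ordPRUT_0
    · exact chk_ordPRUT_1
  · intro c hc
    have h' : c < 4 := hc
    interval_cases c
    · exact chk_lwPRUT_0
    · exact chk_lwPRUT_1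
    · exact chk_lwPRUT_2
    · exact chk_lwPRUT_3

theorem chk_ptsRUT : chkPts ruM0 DRUT wsRUT RuM.px PLRUT PLIRUT = true := by decide +kernel

end Cfsg.Agent.Lib.Helper1.RuMu
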