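import Mathlib
import Cfsg.Agent.Lib.Helper1.RuMu.RUA
import Cfsg.Agent.Lib.Helper1.RuM2
import Cfsg.Agent.Lib.Helper1.RuMu.Lem
import Cfsg.Agent.Lib.Helper1.RuMu.TMD

set_option autoImplicit false
set_option maxRecDepth 100000

/-! The Tits group inside the Rudvalis group on 4060 points: the model of the subgroup generated
by two words, and a lower bound for its order from a stabilizer chain. -/

namespace Cfsg.Agent.Lib.Helper1.RuMu

open Cfsg Cfsg.Agent.Lib.Helper1 Cfsg.Agent.Lib.Helper1.MatCode
open Cfsg.Agent.Lib.Helper6.TC Cfsg.Agent.Lib.Helper6.PM Cfsg.Agent.Lib.Helper2.PMS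
open Cfsg.Agent.Lib.Helper5.Chain Cfsg.Agent.Lib.Helper5.Srch Cfsg.Agent.Lib.Helper1.PMChk
  Cfsg.Agent.Lib.Helper1.SetAct Cfsg.Agent.Lib.Helper1.RuM

/-- the inverse letter -/
def iot (c : ℕ) : ℕ := (c + 2) % 4

theorem iot_lt : ∀ c < 4, iot c < 4 := by decide

theorem chk_invRu : ((List.range 4).all fun c => (List.range 4060).all fun q =>
    RuM.px (iot c) (RuM.px c q) == q) = true := by decide +kernel

theorem invRu : ∀ c < ruM0.nl, ∀ q < ruM0.n, ruM0.px (iot c) (ruM0.px c q) = q := by
  intro c hc q hq
  have h := chk_invRu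
  simp only [List.all_eq_true, List.mem_range, beq_iff_eq] at h
  exact h c hc q hq

theorem chk_tabT0 : chkTab ruM0 wsT pmT 0 = true := by decide +kernel

theorem chk_tabT1 : chkTab ruM0 wsT pmT 1 = true := by decide +kernel

theorem chk_tabT2 : chkTab ruM0 wsT pmT 2 = true := by decide +kernel

theorem chk_tabT3 : chkTab ruM0 wsT pmT 3 = true := by decide +kernel

theorem tabT : TabFacts ruM0 wsT pmT := by
  apply tabFacts_of_chk
  intro i hi
  have h' : i < 4 := hi
  interval_cases i
  · exact chk_tabT0
  · exact chk_tabT1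
  · exact chk_tabT2
  · exact chk_tabT3

/-- the model of the subgroup generated by the two words (letters: the two generators and their
inverses) -/
noncomputable def tM : PModel := sub ruM0 wsT pmT tabT

theorem tM_nl : tM.nl = 4 := rfl

theorem tM_n : tM.n = 4060 := rfl

theorem tM_px : tM.px = pmT := rfl

theorem chk_invT : ((List.range 4).all fun c => (List.range 4060).all fun q =>
    pmT (iot c) (pmT c q) == q) = true := by decide +kernel

theorem invT : ∀ c < tM.nl, ∀ q < tM.n, tM.px (iot c) (tM.px c q) = q := by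
  intro c hc q hq
  have h := chk_invT
  simp only [List.all_eq_true, List.mem_range, beq_iff_eq] at h
  exact h c hc q hq

theorem chk_oldT : chkRange (chkOld pmT 4060 pmT) 0 4 = true := by decide +kernel

theorem chk_newT0 : chkNew 4060 4 dsT pmT 0 = true := by decide +kernel

theorem chk_newT1 : chkNew 4060 4 dsT pmT 1 = true := by decide +kernel

theorem chk_newT2 : chkNew 4060 4 dsT pmT 2 = true := by decide +kernel

theorem chk_newT3 : chkNew 4060 4 dsT pmT 3 = true := by decide +kernel

theorem chk_newT4 : chkNew 4060 4 dsT pmT 4 = true := by decide +kernel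

theorem chk_newT5 : chkNew 4060 4 dsT pmT 5 = true := by decide +kernel

theorem chk_newT6 : chkNew 4060 4 dsT pmT 6 = true := by decide +kernel

theorem chk_newT7 : chkNew 4060 4 dsT pmT 7 = true := by decide +kernel

theorem chk_newT8 : chkNew 4060 4 dsT pmT 8 = true := by decide +kernel

theorem chk_newT : chkRange (chkNew 4060 4 dsT pmT) 0 dsT.length = true := by
  apply chkRange_of_forall
  intro k _ hk
  have hk' : k < 9 := hk
  interval_cases k
  · exact chk_newT0
  · exact chk_newT1
  · exact chk_newT2
  · exact chk_newT3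
  · exact chk_newT4
  · exact chk_newT5
  · exact chk_newT6
  · exact chk_newT7
  · exact chk_newT8

theorem chk_slpT : chkSLP tM.px tM.n tM.nl dsT pmT = true :=
  chkSLP_of_pieces pmT 4060 4 dsT pmT chk_oldT chk_newT

/-- the model of the subgroup with the strong generators as letters (13 letters) -/
noncomputable def tS : PModel := slpModel tM dsT pmT chk_slpT

theorem tS_nl : tS.nl = 13 := slpModel_nl tM dsT pmT chk_slpT

theorem chk_lvT0 : chkLevel pmT 2 lvT0 [lvT1, lvT2] = true := by decide +kernel

theorem chk_lvT1 : chkLevel pmT 1 lvT1 [lvT2] = true := by decide +kernel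

theorem chk_lvT2 : chkLevel pmT 4 lvT2 [] = true := by decide +kernel

theorem chain_T : IsChain pmT baseT levelsT :=
  isChain_cons pmT 2 _ lvT0 _ chk_lvT0 (isChain_cons pmT 1 _ lvT1 _ chk_lvT1
    (isChain_cons pmT 4 _ lvT2 _ chk_lvT2 (isChain_nil pmT)))

theorem chk_letT : chkLet 13 levelsT = true := by decide +kernel

theorem levels_prodT : (levelsT.map List.length).prod = 17971200 := by decide +kernel

theorem card_T_ge : 17971200 ≤ Nat.card tM.G := by
  have h := card_ge_chain tS baseT levelsT chain_T (by decide)
    (by rw [tS_nl]; exact letters_of_chkLet 13 levelsT chk_letT)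
  rw [levels_prodT] at h
  exact h

end Cfsg.Agent.Lib.Helper1.RuMu
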