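import Mathlib
import Cfsg.Agent.Lib.Helper1.RuMu.TXD

set_option autoImplicit false
set_option maxRecDepth 100000
set_option maxHeartbeats 8000000

/-! Labelled action data TX: the check of the structure. -/

namespace Cfsg.Agent.Lib.Helper1.RuMu

open Cfsg.Agent.Lib.Helper1

theorem chk_structTX : DTX.chkStruct = true := by decide +kernel

end Cfsg.Agent.Lib.Helper1.RuMu
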