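import Mathlib
import Cfsg.Agent.Lib.Helper1.RuMu.TM
import Cfsg.Agent.Lib.Helper1.RuMu.TXDS
import Cfsg.Agent.Lib.Helper1.RuMu.TSDS

set_option autoImplicit false
set_option maxRecDepth 100000

/-! The Tits group inside the Rudvalis group on 4060 points: the checks of the generators, of the relations and of the points for the two labelled actions. -/

namespace Cfsg.Agent.Lib.Helper1.RuMu

open Cfsg Cfsg.Agent.Lib.Helper1 Cfsg.Agent.Lib.Helper1.MatCode
open Cfsg.Agent.Lib.Helper6.TC Cfsg.Agent.Lib.Helper6.PM

theorem chk_tabTX_0 : chkTab tM wsTX pmT 0 = true := by decide +kernel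

theorem chk_tabTX_1 : chkTab tM wsTX pmT 1 = true := by decide +kernel

theorem chk_relPTX_0 : chkRelP tM DTX pmT 0 = true := by decide +kernel

theorem chk_relPTX_1 : chkRelP tM DTX pmT 1 = true := by decide +kernel

theorem chk_relPTX_2 : chkRelP tM DTX pmT 2 = true := by decide +kernel

theorem chk_ordPTX_0 : chkOrdP tM DTX pmT 0 = true := by decide +kernel

theorem chk_ordPTX_1 : chkOrdP tM DTX pmT 1 = true := by decide +kernel

theorem chk_lwPTX_0 : chkLwP tM wsTX pmT lwTX 0 = true := by decide +kernel

theorem chk_lwPTX_1 : chkLwP tM wsTX pmT lwTX 1 = true := by decide +kernel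

theorem chk_lwPTX_2 : chkLwP tM wsTX pmT lwTX 2 = true := by decide +kernel

theorem chk_lwPTX_3 : chkLwP tM wsTX pmT lwTX 3 = true := by decide +kernel

theorem coreTX : CoreFacts tM DTX wsTX pmT lwTX := by
  apply coreFacts_of_chk
  · rfl
  · intro i hi
    have h' : i < 2 := hi
    interval_cases i
    · exact chk_tabTX_0
    · exact chk_tabTX_1
  · intro r hr
    have h' : r < 3 := hr
    interval_cases r
    · exact chk_relPTX_0
    · exact chk_relPTX_1
    · exact chk_relPTX_2
  · intro i hi
    have h' : i < 2 := hi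
    interval_cases i
    · exact chk_ordPTX_0
    · exact chk_ordPTX_1
  · intro c hc
    have h' : c < 4 := hc
    interval_cases c
    · exact chk_lwPTX_0
    · exact chk_lwPTX_1
    · exact chk_lwPTX_2
    · exact chk_lwPTX_3

theorem chk_ptsTX : chkPts tM DTX wsTX pmT PLTX PLITX = true := by decide +kernel

theorem chk_tabTS_0 : chkTab tM wsTS pmT 0 = true := by decide +kernel

theorem chk_tabTS_1 : chkTab tM wsTS pmT 1 = true := by decide +kernel

theorem chk_relPTS_0 : chkRelP tM DTS pmT 0 = true := by decide +kernel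

theorem chk_relPTS_1 : chkRelP tM DTS pmT 1 = true := by decide +kernel

theorem chk_relPTS_2 : chkRelP tM DTS pmT 2 = true := by decide +kernel

theorem chk_ordPTS_0 : chkOrdP tM DTS pmT 0 = true := by decide +kernel

theorem chk_ordPTS_1 : chkOrdP tM DTS pmT 1 = true := by decide +kernel

theorem chk_lwPTS_0 : chkLwP tM wsTS pmT lwTS 0 = true := by decide +kernel

theorem chk_lwPTS_1 : chkLwP tM wsTS pmT lwTS 1 = true := by decide +kernel

theorem chk_lwPTS_2 : chkLwP tM wsTS pmT lwTS 2 = true := by decide +kernel

theorem chk_lwPTS_3 : chkLwP tM wsTS pmT lwTS 3 = true := by decide +kernel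

theorem coreTS : CoreFacts tM DTS wsTS pmT lwTS := by
  apply coreFacts_of_chk
  · rfl
  · intro i hi
    have h' : i < 2 := hi
    interval_cases i
    · exact chk_tabTS_0
    · exact chk_tabTS_1
  · intro r hr
    have h' : r < 3 := hr
    interval_cases r
    · exact chk_relPTS_0
    · exact chk_relPTS_1
    · exact chk_relPTS_2
  · intro i hi
    have h' : i < 2 := hi
    interval_cases i
    · exact chk_ordPTS_0
    · exact chk_ordPTS_1
  · intro c hc
    have h' : c < 4 := hc
    interval_cases c
    · exact chk_lwPTS_0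
    · exact chk_lwPTS_1
    · exact chk_lwPTS_2
    · exact chk_lwPTS_3

end Cfsg.Agent.Lib.Helper1.RuMu
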