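import Mathlib
import Cfsg.Agent.Lib.Helper1.RuMu.TA
import Cfsg.Agent.Lib.Helper1.RuMu.TM
import Cfsg.Agent.Lib.Helper1.RuMu.LMD
import Cfsg.Agent.Lib.Helper1.RuMu.LPDS

set_option autoImplicit false
set_option maxRecDepth 100000

/-! The subgroup `L3(3)` of the Tits group inside the Rudvalis group on 4060 points: the model of
the subgroup generated by two words, a lower bound for its order from a stabilizer chain, and the
checks of the generators, of the relations and of the points for the labelled action. -/

namespace Cfsg.Agent.Lib.Helper1.RuMu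

open Cfsg Cfsg.Agent.Lib.Helper1 Cfsg.Agent.Lib.Helper1.MatCode
open Cfsg.Agent.Lib.Helper6.TC Cfsg.Agent.Lib.Helper6.PM Cfsg.Agent.Lib.Helper2.PMS
open Cfsg.Agent.Lib.Helper5.Chain Cfsg.Agent.Lib.Helper5.Srch Cfsg.Agent.Lib.Helper1.PMChk
  Cfsg.Agent.Lib.Helper1.SetAct

theorem chk_tabL0 : chkTab tM wsL pmL 0 = true := by decide +kernel

theorem chk_tabL1 : chkTab tM wsL pmL 1 = true := by decide +kernel

theorem chk_tabL2 : chkTab tM wsL pmL 2 = true := by decide +kernel

theorem chk_tabL3 : chkTab tM wsL pmL 3 = true := by decide +kernel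

theorem tabL : TabFacts tM wsL pmL := by
  apply tabFacts_of_chk
  intro i hi
  have h' : i < 4 := hi
  interval_cases i
  · exact chk_tabL0
  · exact chk_tabL1
  · exact chk_tabL2
  · exact chk_tabL3

/-- the model of the subgroup generated by the two words (letters: the two generators and their
inverses) -/
noncomputable def lM : PModel := sub tM wsL pmL tabL

theorem lM_nl : lM.nl = 4 := rfl

theorem lM_n : lM.n = 4060 := rfl

theorem lM_px : lM.px = pmL := rfl

theorem chk_oldL : chkRange (chkOld pmL 4060 pmL) 0 4 = true := by decide +kernel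

theorem chk_newL0 : chkNew 4060 4 dsL pmL 0 = true := by decide +kernel

theorem chk_newL1 : chkNew 4060 4 dsL pmL 1 = true := by decide +kernel

theorem chk_newL : chkRange (chkNew 4060 4 dsL pmL) 0 dsL.length = true := by
  apply chkRange_of_forall
  intro k _ hk
  have hk' : k < 2 := hk
  interval_cases k
  · exact chk_newL0
  · exact chk_newL1

theorem chk_slpL : chkSLP lM.px lM.n lM.nl dsL pmL = true :=
  chkSLP_of_pieces pmL 4060 4 dsL pmL chk_oldL chk_newL

/-- the model of the subgroup with the strong generators as letters (6 letters) -/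
noncomputable def lS : PModel := slpModel lM dsL pmL chk_slpL

theorem lS_nl : lS.nl = 6 := slpModel_nl lM dsL pmL chk_slpL

theorem chk_lvL0 : chkLevel pmL 5 lvL0 [lvL1] = true := by decide +kernel

theorem chk_lvL1 : chkLevel pmL 1 lvL1 [] = true := by decide +kernel

theorem chain_L : IsChain pmL baseL levelsL :=
  isChain_cons pmL 5 _ lvL0 _ chk_lvL0 (isChain_cons pmL 1 _ lvL1 _ chk_lvL1 (isChain_nil pmL))

theorem chk_letL : chkLet 6 levelsL = true := by decide +kernel

theorem levels_prodL : (levelsL.map List.length).prod = 5616 := by decide +kernel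

theorem card_L_ge : 5616 ≤ Nat.card lM.G := by
  have h := card_ge_chain lS baseL levelsL chain_L (by decide)
    (by rw [lS_nl]; exact letters_of_chkLet 6 levelsL chk_letL)
  rw [levels_prodL] at h
  exact h

/-! ### The labelled action on 432 points -/

theorem chk_tabLP_0 : chkTab lM wsLP pmL 0 = true := by decide +kernel

theorem chk_tabLP_1 : chkTab lM wsLP pmL 1 = true := by decide +kernel

theorem chk_relPLP_0 : chkRelP lM DLP pmL 0 = true := by decide +kernel

theorem chk_relPLP_1 : chkRelP lM DLP pmL 1 = true := by decide +kernel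

theorem chk_relPLP_2 : chkRelP lM DLP pmL 2 = true := by decide +kernel

theorem chk_relPLP_3 : chkRelP lM DLP pmL 3 = true := by decide +kernel

theorem chk_relPLP_4 : chkRelP lM DLP pmL 4 = true := by decide +kernel

theorem chk_relPLP_5 : chkRelP lM DLP pmL 5 = true := by decide +kernel

theorem chk_ordPLP_0 : chkOrdP lM DLP pmL 0 = true := by decide +kernel

theorem chk_ordPLP_1 : chkOrdP lM DLP pmL 1 = true := by decide +kernel

theorem chk_lwPLP_0 : chkLwP lM wsLP pmL lwLP 0 = true := by decide +kernel

theorem chk_lwPLP_1 : chkLwP lM wsLP pmL lwLP 1 = true := by decide +kernel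

theorem chk_lwPLP_2 : chkLwP lM wsLP pmL lwLP 2 = true := by decide +kernel

theorem chk_lwPLP_3 : chkLwP lM wsLP pmL lwLP 3 = true := by decide +kernel

theorem coreLP : CoreFacts lM DLP wsLP pmL lwLP := by
  apply coreFacts_of_chk
  · rfl
  · intro i hi
    have h' : i < 2 := hi
    interval_cases i
    · exact chk_tabLP_0
    · exact chk_tabLP_1
  · intro r hr
    have h' : r < 6 := hr
    interval_cases r
    · exact chk_relPLP_0
    · exact chk_relPLP_1
    · exact chk_relPLP_2
    · exact chk_relPLP_3
    · exact chk_relPLP_4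
    · exact chk_relPLP_5
  · intro i hi
    have h' : i < 2 := hi
    interval_cases i
    · exact chk_ordPLP_0
    · exact chk_ordPLP_1
  · intro c hc
    have h' : c < 4 := hc
    interval_cases c
    · exact chk_lwPLP_0
    · exact chk_lwPLP_1
    · exact chk_lwPLP_2
    · exact chk_lwPLP_3

theorem chk_ptsLP : chkPts lM DLP wsLP pmL PLLP PLILP = true := by decide +kernel

end Cfsg.Agent.Lib.Helper1.RuMu
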