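import Mathlib
import Cfsg.Agent.Lib.Helper1.RuMu.LM
import Cfsg.Agent.Lib.Helper1.RuMu.TM
import Cfsg.Agent.Lib.Helper1.RuMu.TSL
import Cfsg.Agent.Lib.Helper1.RuMu.TSD
import Cfsg.Agent.Lib.Helper1.RuMu.LMD

set_option autoImplicit false
set_option maxRecDepth 100000

/-! The 1600 sets permuted by the Tits group inside the Rudvalis group on 4060 points: the checks
of the distinctness, and of the two elements outside of the subgroups. -/

namespace Cfsg.Agent.Lib.Helper1.RuMu

open Cfsg Cfsg.Agent.Lib.Helper1 Cfsg.Agent.Lib.Helper1.MatCode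
open Cfsg.Agent.Lib.Helper6.TC Cfsg.Agent.Lib.Helper6.PM
open Cfsg.Agent.Lib.Helper1.SetAct Cfsg.Agent.Lib.Helper1.RuM

theorem chk_rnkTS : chkRnk 1601 ordT rnkT = true := by decide +kernel

theorem chk_incTS0 : chkIncR 12 351 slT 4060 ordT 0 200 = true := by decide +kernel

theorem chk_incTS1 : chkIncR 12 351 slT 4060 ordT 200 200 = true := by decide +kernel

theorem chk_incTS2 : chkIncR 12 351 slT 4060 ordT 400 200 = true := by decide +kernel

theorem chk_incTS3 : chkIncR 12 351 slT 4060 ordT 600 200 = true := by decide +kernel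

theorem chk_incTS4 : chkIncR 12 351 slT 4060 ordT 800 200 = true := by decide +kernel

theorem chk_incTS5 : chkIncR 12 351 slT 4060 ordT 1000 200 = true := by decide +kernel

theorem chk_incTS6 : chkIncR 12 351 slT 4060 ordT 1200 200 = true := by decide +kernel

theorem chk_incTS7 : chkIncR 12 351 slT 4060 ordT 1400 200 = true := by decide +kernel

theorem chk_W1 : chkOne 12 351 (fun q => wappS RuM.px wG1 q) (fun q => wappS RuM.px wG1i q)
    (slT 0) (slT 1600) = true := by decide +kernel

theorem chk_W1p : wappS RuM.px wG1 0 = 0 := by decide +kernel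

theorem wG1i_eq : wG1i = invWord iot wG1 := by decide

theorem wG2i_eq : wG2i = invWord iot wG2 := by decide

theorem wsT_inv : wsT.getD 2 [] = invWord iot (wsT.getD 0 []) ∧
    wsT.getD 3 [] = invWord iot (wsT.getD 1 []) := by decide

theorem wsL_inv : wsL.getD 2 [] = invWord iot (wsL.getD 0 []) ∧
    wsL.getD 3 [] = invWord iot (wsL.getD 1 []) := by decide

theorem chk_actEa : chkSetAct 12 2 (pmL 0) (pmL 2) slE piEa 468 = true := by decide +kernel

theorem chk_actEh : chkSetAct 12 2 (pmL 1) (pmL 3) slE piEh 468 = true := by decide +kernel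

theorem chk_piE : ((List.range 468).all fun j =>
    decide (piEa j < 468) && decide (piEh j < 468)) = true := by decide +kernel

theorem chk_W2a : chkOne 12 351 (fun q => wappS pmT wG2 q) (fun q => wappS pmT wG2i q)
    (slT 0) (slT 0) = true := by decide +kernel

theorem chk_W2b : chkOne 12 2 (fun q => wappS pmT wG2 q) (fun q => wappS pmT wG2i q)
    (slE 0) slE2 = true := by decide +kernel

theorem chk_W2c : ((List.range 468).all fun j =>
    decide (maskOf 12 slE2 2 % 2 ^ 4060 ≠ maskOf 12 (slE j) 2 % 2 ^ 4060)) = true := by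
  decide +kernel

theorem chk_hS0 : chkOne 12 351 (pmL 1) (pmL 3) (slT 0) (slT 0) = true := by decide +kernel

theorem chk_aS0 : chkOne 12 351 (pmL 0) (pmL 2) (slT 0) (slT 0) = true := by decide +kernel

end Cfsg.Agent.Lib.Helper1.RuMu
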