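import Mathlib
import Cfsg.Agent.Lib.Helper1.RuMu.TSA21
import Cfsg.Agent.Lib.Helper1.SetAct
import Cfsg.Agent.Lib.Helper1.RuMu.TMD
import Cfsg.Agent.Lib.Helper1.RuMu.TSL
import Cfsg.Agent.Lib.Helper1.RuMu.TSD

set_option autoImplicit false
set_option maxRecDepth 100000

/-! The 1600 sets permuted by the Tits group inside the Rudvalis group on 4060 points: the checks
of the action of the generator 1, by ranges of 100 sets (part 2). -/

namespace Cfsg.Agent.Lib.Helper1.RuMu

open Cfsg.Agent.Lib.Helper1.SetAct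

theorem chk_actTS1_8 : chkSetActR 12 351 (pmT 1) (pmT 3) slT (DTS.pi 1) 800 100 = true := by
  decide +kernel

theorem chk_actTS1_9 : chkSetActR 12 351 (pmT 1) (pmT 3) slT (DTS.pi 1) 900 100 = true := by
  decide +kernel

theorem chk_actTS1_10 : chkSetActR 12 351 (pmT 1) (pmT 3) slT (DTS.pi 1) 1000 100 = true := by
  decide +kernel

theorem chk_actTS1_11 : chkSetActR 12 351 (pmT 1) (pmT 3) slT (DTS.pi 1) 1100 100 = true := by
  decide +kernel

end Cfsg.Agent.Lib.Helper1.RuMu
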