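import Mathlib
import Cfsg.Agent.Lib.Helper1.RuMu.RUA
import Cfsg.Agent.Lib.Helper1.RuMu.TA
import Cfsg.Agent.Lib.Helper1.RuMu.TSA10
import Cfsg.Agent.Lib.Helper1.RuMu.TSA11
import Cfsg.Agent.Lib.Helper1.RuMu.TSA12
import Cfsg.Agent.Lib.Helper1.RuMu.TSA13
import Cfsg.Agent.Lib.Helper1.RuMu.TSA20
import Cfsg.Agent.Lib.Helper1.RuMu.TSA21
import Cfsg.Agent.Lib.Helper1.RuMu.TSA22
import Cfsg.Agent.Lib.Helper1.RuMu.TSA23
import Cfsg.Agent.Lib.Helper1.RuMu.TSA3

set_option autoImplicit false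
set_option maxRecDepth 100000

/-! The Rudvalis group on 4060 points: the stabilizer of a point, the Tits group as its subgroup of
index two, which is perfect. -/

namespace Cfsg.Agent.Lib.Helper1.RuMu

open Cfsg Cfsg.Agent.Lib.Helper1 Cfsg.Agent.Lib.Helper1.MatCode
open Cfsg.Agent.Lib.Helper6.TC Cfsg.Agent.Lib.Helper6.PM
open Cfsg.Agent.Lib.Helper1.SetAct Cfsg.Agent.Lib.Helper1.RuM Cfsg.Agent.Lib.Helper1.StemSA
  Cfsg.Agent.Lib.Helper1.Ru

open scoped Pointwise

/-! ### The action of the generators of the Tits group on the 1600 sets -/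

theorem chk_actTS0_all (j : ℕ) (hj : j < 1600) :
    ∃ lo, lo ≤ j ∧ j < lo + 100 ∧
      chkSetActR 12 351 (pmT 0) (pmT 2) slT (DTS.pi 0) lo 100 = true := by
  have h : j / 100 < 16 := by omega
  have e : j = 100 * (j / 100) + j % 100 := (Nat.div_add_mod j 100).symm
  have hm : j % 100 < 100 := Nat.mod_lt _ (by norm_num)
  generalize j / 100 = k at h e
  interval_cases k
  · exact ⟨0, by omega, by omega, chk_actTS0_0⟩
  · exact ⟨100, by omega, by omega, chk_actTS0_1⟩
  · exact ⟨200, by omega, by omega, chk_actTS0_2⟩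
  · exact ⟨300, by omega, by omega, chk_actTS0_3⟩
  · exact ⟨400, by omega, by omega, chk_actTS0_4⟩
  · exact ⟨500, by omega, by omega, chk_actTS0_5⟩
  · exact ⟨600, by omega, by omega, chk_actTS0_6⟩
  · exact ⟨700, by omega, by omega, chk_actTS0_7⟩
  · exact ⟨800, by omega, by omega, chk_actTS0_8⟩
  · exact ⟨900, by omega, by omega, chk_actTS0_9⟩
  · exact ⟨1000, by omega, by omega, chk_actTS0_10⟩
  · exact ⟨1100, by omega, by omega, chk_actTS0_11⟩
  · exact ⟨1200, by omega, by omega, chk_actTS0_12⟩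
  · exact ⟨1300, by omega, by omega, chk_actTS0_13⟩
  · exact ⟨1400, by omega, by omega, chk_actTS0_14⟩
  · exact ⟨1500, by omega, by omega, chk_actTS0_15⟩

theorem chk_actTS1_all (j : ℕ) (hj : j < 1600) :
    ∃ lo, lo ≤ j ∧ j < lo + 100 ∧
      chkSetActR 12 351 (pmT 1) (pmT 3) slT (DTS.pi 1) lo 100 = true := by
  have h : j / 100 < 16 := by omega
  have e : j = 100 * (j / 100) + j % 100 := (Nat.div_add_mod j 100).symm
  have hm : j % 100 < 100 := Nat.mod_lt _ (by norm_num)
  generalize j / 100 = k at h e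
  interval_cases k
  · exact ⟨0, by omega, by omega, chk_actTS1_0⟩
  · exact ⟨100, by omega, by omega, chk_actTS1_1⟩
  · exact ⟨200, by omega, by omega, chk_actTS1_2⟩
  · exact ⟨300, by omega, by omega, chk_actTS1_3⟩
  · exact ⟨400, by omega, by omega, chk_actTS1_4⟩
  · exact ⟨500, by omega, by omega, chk_actTS1_5⟩
  · exact ⟨600, by omega, by omega, chk_actTS1_6⟩
  · exact ⟨700, by omega, by omega, chk_actTS1_7⟩
  · exact ⟨800, by omega, by omega, chk_actTS1_8⟩
  · exact ⟨900, by omega, by omega, chk_actTS1_9⟩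
  · exact ⟨1000, by omega, by omega, chk_actTS1_10⟩
  · exact ⟨1100, by omega, by omega, chk_actTS1_11⟩
  · exact ⟨1200, by omega, by omega, chk_actTS1_12⟩
  · exact ⟨1300, by omega, by omega, chk_actTS1_13⟩
  · exact ⟨1400, by omega, by omega, chk_actTS1_14⟩
  · exact ⟨1500, by omega, by omega, chk_actTS1_15⟩

/-- the action of an element with the tables of the first generator on the sets -/
theorem smul_set0 (M : PModel) (g : M.G)
    (hf : ∀ p : Fin M.n, (g⁻¹ • p).val = pmT 0 p.val)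
    (hf' : ∀ p : Fin M.n, (g • p).val = pmT 2 p.val) (j : ℕ) (hj : j < 1600) :
    g • ptL M 12 351 (slT j) = ptL M 12 351 (slT (DTS.pi 0 j)) := by
  obtain ⟨lo, h1, h2, h3⟩ := chk_actTS0_all j hj
  exact smul_ptL_of_chkR M 12 351 g _ _ hf hf' slT _ lo 100 h3 j h1 h2

/-- the action of an element with the tables of the second generator on the sets -/
theorem smul_set1 (M : PModel) (g : M.G)
    (hf : ∀ p : Fin M.n, (g⁻¹ • p).val = pmT 1 p.val)
    (hf' : ∀ p : Fin M.n, (g • p).val = pmT 3 p.val) (j : ℕ) (hj : j < 1600) :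
    g • ptL M 12 351 (slT j) = ptL M 12 351 (slT (DTS.pi 1 j)) := by
  obtain ⟨lo, h1, h2, h3⟩ := chk_actTS1_all j hj
  exact smul_ptL_of_chkR M 12 351 g _ _ hf hf' slT _ lo 100 h3 j h1 h2

/-- the masks of the 1601 sets are distinct -/
theorem masks_inj : ∀ j < 1601, ∀ j' < 1601,
    maskOf 12 (slT j) 351 % 2 ^ 4060 = maskOf 12 (slT j') 351 % 2 ^ 4060 → j = j' := by
  apply mask_inj_of_steps 12 351 slT 1601 4060 ordT rnkT chk_rnkTS
  intro t ht
  have h : t / 200 < 8 := by omega
  have e : t = 200 * (t / 200) + t % 200 := (Nat.div_add_mod t 200).symm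
  have hm : t % 200 < 200 := Nat.mod_lt _ (by norm_num)
  generalize t / 200 = k at h e
  interval_cases k
  · exact step_of_chkIncR 12 351 slT 4060 ordT 0 200 chk_incTS0 t (by omega) (by omega)
  · exact step_of_chkIncR 12 351 slT 4060 ordT 200 200 chk_incTS1 t (by omega) (by omega)
  · exact step_of_chkIncR 12 351 slT 4060 ordT 400 200 chk_incTS2 t (by omega) (by omega)
  · exact step_of_chkIncR 12 351 slT 4060 ordT 600 200 chk_incTS3 t (by omega) (by omega)
  · exact step_of_chkIncR 12 351 slT 4060 ordT 800 200 chk_incTS4 t (by omega) (by omega)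
  · exact step_of_chkIncR 12 351 slT 4060 ordT 1000 200 chk_incTS5 t (by omega) (by omega)
  · exact step_of_chkIncR 12 351 slT 4060 ordT 1200 200 chk_incTS6 t (by omega) (by omega)
  · exact step_of_chkIncR 12 351 slT 4060 ordT 1400 200 chk_incTS7 t (by omega) (by omega)

/-! ### The tables of the generators of the Tits group -/

theorem wsT_lt : ∀ i < 4, ∀ c ∈ wsT.getD i [], c < ruM0.nl := by
  intro i hi c hc
  apply tabT.1 (wsT.getD i []) _ c hc
  rw [List.getD_eq_getElem _ _ (by exact hi)]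
  exact List.getElem_mem _

/-- the generators of the Tits group in the Rudvalis group -/
noncomputable def gT (i : ℕ) : ruM0.G := ruM0.elt (wsT.getD i [])

theorem gT_inv_tab (i : ℕ) (hi : i < 4) (p : Fin ruM0.n) : ((gT i)⁻¹ • p).val = pmT i p.val := by
  unfold gT
  rw [ruM0.inv_elt_smul_val _ (wsT_lt i hi)]
  exact tabT.2 i hi p.val p.isLt

theorem gT_two : gT 2 = (gT 0)⁻¹ := by
  unfold gT
  rw [wsT_inv.1]
  exact elt_invWord ruM0 iot iot_lt invRu _ (wsT_lt 0 (by norm_num))

theorem gT_three : gT 3 = (gT 1)⁻¹ := by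
  unfold gT
  rw [wsT_inv.2]
  exact elt_invWord ruM0 iot iot_lt invRu _ (wsT_lt 1 (by norm_num))

theorem gT_tab0 (p : Fin ruM0.n) : (gT 0 • p).val = pmT 2 p.val := by
  have h := gT_inv_tab 2 (by norm_num) p
  rwa [gT_two, inv_inv] at h

theorem gT_tab1 (p : Fin ruM0.n) : (gT 1 • p).val = pmT 3 p.val := by
  have h := gT_inv_tab 3 (by norm_num) p
  rwa [gT_three, inv_inv] at h

/-- the Tits group as a subgroup of the Rudvalis group -/
noncomputable def TR : Subgroup ruM0.G := Helper6.PM.subH ruM0 wsT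

/-- the family of the 1600 sets -/
def famT : Set (Set (Fin ruM0.n)) := famL ruM0 12 351 slT 1600

theorem pi_ltTS (i : ℕ) (hi : i < 2) (j : ℕ) (hj : j < 1600) : DTS.pi i j < 1600 :=
  StemSA.pi_lt DTS chk_structTS i j hi hj

theorem TR_le_stab : TR ≤ MulAction.stabilizer ruM0.G famT := by
  unfold TR Helper6.PM.subH
  rw [Subgroup.closure_le]
  rintro _ ⟨i, hi, rfl⟩
  have hi' : i < 4 := hi
  have h0 : gT 0 ∈ MulAction.stabilizer ruM0.G famT :=
    mem_stabilizer_famL ruM0 12 351 slT 1600 (gT 0) (DTS.pi 0) (pi_ltTS 0 (by norm_num))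
      (smul_set0 ruM0 (gT 0) (gT_inv_tab 0 (by norm_num)) gT_tab0)
  have h1 : gT 1 ∈ MulAction.stabilizer ruM0.G famT :=
    mem_stabilizer_famL ruM0 12 351 slT 1600 (gT 1) (DTS.pi 1) (pi_ltTS 1 (by norm_num))
      (smul_set1 ruM0 (gT 1) (gT_inv_tab 1 (by norm_num)) gT_tab1)
  interval_cases i
  · exact h0
  · exact h1
  · show gT 2 ∈ _
    rw [gT_two]
    exact Subgroup.inv_mem _ h0
  · show gT 3 ∈ _
    rw [gT_three]
    exact Subgroup.inv_mem _ h1

/-! ### The stabilizer of the point 0 -/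

/-- the stabilizer of the first point -/
noncomputable def KR : Subgroup ruM0.G := MulAction.stabilizer ruM0.G (pt ruM0 PLRUT 0)

theorem pt0_val : (pt ruM0 PLRUT 0).val = 0 := by
  rw [pt_val ruM0 DRUT wsRUT RuM.px PLRUT PLIRUT chk_ptsRUT 0 (by decide)]
  decide +kernel

theorem card_KR : Nat.card KR = 35942400 := by
  have h := card_stab_pts ruM0 DRUT chk_structRUT wsRUT RuM.px lwRUT coreRUT (by decide) PLRUT PLIRUT
    chk_ptsRUT
  have h2 : Nat.card ruM0.G = 145926144000 := card_H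
  rw [h2] at h
  have h3 : DRUT.m = 4060 := rfl
  rw [h3] at h
  unfold KR
  omega

theorem mem_KR_of_wapp (w : List ℕ) (hw : ∀ c ∈ w, c < ruM0.nl) (h : wapp ruM0.px w 0 = 0) :
    ruM0.elt w ∈ KR := by
  unfold KR
  rw [MulAction.mem_stabilizer_iff]
  apply ruM0.elt_smul w hw
  rw [pt0_val]
  exact h

theorem chk_fixT : ((List.range 4).all fun i => pmT i 0 == 0) = true := by decide +kernel

theorem TR_le_KR : TR ≤ KR := by
  unfold TR Helper6.PM.subH
  rw [Subgroup.closure_le]
  rintro _ ⟨i, hi, rfl⟩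
  have hi' : i < 4 := hi
  apply mem_KR_of_wapp _ (wsT_lt i hi')
  rw [tabT.2 i hi' 0 (by decide)]
  have h := chk_fixT
  simp only [List.all_eq_true, List.mem_range, beq_iff_eq] at h
  exact h i hi'

/-- an element of the stabilizer of the point outside of the Tits group -/
noncomputable def g1 : ruM0.G := ruM0.elt wG1

theorem wG1_lt : ∀ c ∈ wG1, c < ruM0.nl := by decide

theorem g1_mem_KR : g1 ∈ KR := by
  apply mem_KR_of_wapp wG1 wG1_lt
  rw [← wappS_eq]
  exact chk_W1p

theorem g1_not_mem : g1 ∉ MulAction.stabilizer ruM0.G famT := by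
  obtain ⟨t1, t2⟩ := word_tables ruM0 iot iot_lt invRu wG1 wG1_lt
  apply not_mem_stabilizer_famL ruM0 12 351 slT 1600 g1 (slT 1600) (by norm_num)
  · apply smul_ptL ruM0 12 351 g1 (fun q => wappS RuM.px wG1 q) (fun q => wappS RuM.px wG1i q)
    · intro p
      rw [wappS_eq]
      exact t1 p
    · intro p
      rw [wappS_eq, wG1i_eq]
      exact t2 p
    · exact chk_W1
  · intro j hj e
    have := masks_inj 1600 (by norm_num) j (by omega) e
    omega

theorem TR_ne_KR : TR ≠ KR := by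
  intro h
  apply g1_not_mem
  apply TR_le_stab
  rw [h]
  exact g1_mem_KR

instance : Finite KR := inferInstance

theorem card_TR : Nat.card TR = 17971200 :=
  card_eq_of_ge_of_ne KR TR TR_le_KR TR_ne_KR 17971200 (by rw [card_KR]) card_T_ge

theorem card_tM : Nat.card tM.G = 17971200 := card_TR

end Cfsg.Agent.Lib.Helper1.RuMu
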