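import Mathlib
import Cfsg.Agent.Lib.Helper1.RuMu.LPD
import Cfsg.Agent.Lib.Helper1.RuMu.LPp2C
import Cfsg.Agent.Lib.Helper1.ChunkR

set_option autoImplicit false
set_option maxRecDepth 100000
set_option maxHeartbeats 8000000

/-! Certificate LPp2: the cheap part of the main check, and the constants. -/

namespace Cfsg.Agent.Lib.Helper1.RuMu

open Cfsg.Agent.Lib.Helper1

open Cfsg.Agent.Lib.Helper6.Mult Cfsg.Agent.Lib.Helper1.ChunkR StemZP

def XNLPp2 : ℕ := 0x800000000000000000000000000000000000000000000000000000000000000000000000000000000000000000000000000000000000000000000000000000000000000000000000000000000000000000000000000000000000000000000000000000000000000000000000000000000000000000000000000000000000000000000000000000000000000000000000000000000000000000000000000000000000000000000000000000000000000000000000000000000000000000000000000000000000000000000000000000000000000000000000000000000000000000000000000000000000000000000000000000000000000000000000000000000000000000000000000000000000000000000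

def HRLPp2 : ℕ := 0x7bdef7bdef7bdef7bdef7bdef7bdef7bdef7bdef7bdef7bdef7bdef7bdef7bdef7bdef7bdef7bdef7bdef7bdef7bdef7bdef7bdef7bdef7bdef7bdef7bdef7bdef7bdef7bdef7bdef7bdef7bdef7bdef7bdef7bdef7bdef7bdef7bdef7bdef7bdef7bdef7bdef7bdef7bdef7bdef7bdef7bdef7bdef7bdef7bdef7bdef7bdef7bdef7bdef7bdef7bdef7bdef7bdef7bdef7bdef7bdef7bdef7bdef7bdef7bdef7bdef7bdef7bdef7bdef7bdef7bdef7bdef7bdef7bdef7bdef7bdef7bdef7bdef7bdef7bdef7bdef7bdef7bdef7bdef7bdef7bdef7bdef7bdef7bdef7bdef7bdef7bdef7bdef7bdef7bdef7bdef7bdef7bdef7bdef7bdef7bdef7bdef7bdef7bdef7bdef7bdef7bdef7bdef7bdef7bdef7bde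

def HQLPp2 : ℕ := 0x421084210842108421084210842108421084210842108421084210842108421084210842108421084210842108421084210842108421084210842108421084210842108421084210842108421084210842108421084210842108421084210842108421084210842108421084210842108421084210842108421084210842108421084210842108421084210842108421084210842108421084210842108421084210842108421084210842108421084210842108421084210842108421084210842108421084210842108421084210842108421084210842108421084210842108421084210842108421084210842108421084210842108421084210842108421084210842108421084210842108421084210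

theorem hXNLPp2 : CLPp2.Xb ^ CLPp2.N = XNLPp2 := by decide +kernel

theorem hHRLPp2 : rep CLPp2.Xb CLPp2.N CLPp2.hmR = HRLPp2 := by decide +kernel

theorem hHQLPp2 : rep CLPp2.Xb CLPp2.N CLPp2.hmQ = HQLPp2 := by decide +kernel

theorem chk_ALPp2 : chkCertRA DLP CLPp2 = true := by decide +kernel

end Cfsg.Agent.Lib.Helper1.RuMu
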