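import Mathlib
import Cfsg.Agent.Lib.Helper1.RuMu.LPp2B0

set_option autoImplicit false
set_option maxRecDepth 100000
set_option maxHeartbeats 8000000

/-! Certificate LPp2: the main check. -/

namespace Cfsg.Agent.Lib.Helper1.RuMu

open Cfsg.Agent.Lib.Helper1

open Cfsg.Agent.Lib.Helper6.Mult Cfsg.Agent.Lib.Helper1.ChunkR StemZP

def blLPp2 : List (ℕ × ℕ) := [(0, 256), (256, 183)]

theorem chk_mainLPp2 : chkCertRMain DLP CLPp2 = true := by
  apply chkCertRMain_of_blocks' DLP CLPp2 XNLPp2 HRLPp2 HQLPp2 hXNLPp2 hHRLPp2 hHQLPp2 chk_ALPp2 blLPp2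
  · intro b hb
    simp only [blLPp2, List.mem_cons, List.not_mem_nil, or_false] at hb
    rcases hb with rfl | rfl
    · exact chk_blockLPp2_0
    · exact chk_blockLPp2_1
  · decide +kernel

end Cfsg.Agent.Lib.Helper1.RuMu
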