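import Mathlib
import Cfsg.Agent.Lib.Helper1.RuMu.LPp2M

set_option autoImplicit false
set_option maxRecDepth 100000
set_option maxHeartbeats 8000000

/-! Certificate LPp2: the checks of the combinations modulo 4 and the full certificate. -/

namespace Cfsg.Agent.Lib.Helper1.RuMu

open Cfsg.Agent.Lib.Helper1

open Cfsg.Agent.Lib.Helper6.Mult StemZP

theorem chk_certLPp2 : chkCertR DLP CLPp2 = true := by
  apply chkCertR_of_main DLP CLPp2 chk_mainLPp2
  show (List.range 0).all _ = true
  rfl

end Cfsg.Agent.Lib.Helper1.RuMu
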