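import Mathlib
import Cfsg.Agent.Lib.Helper1.RuMu.TSp2B0
import Cfsg.Agent.Lib.Helper1.RuMu.TSp2B1

set_option autoImplicit false
set_option maxRecDepth 100000
set_option maxHeartbeats 8000000

/-! Certificate TSp2: the main check. -/

namespace Cfsg.Agent.Lib.Helper1.RuMu

open Cfsg.Agent.Lib.Helper1

open Cfsg.Agent.Lib.Helper6.Mult Cfsg.Agent.Lib.Helper1.ChunkR StemZP

def blTSp2 : List (ℕ × ℕ) := [(0, 256), (256, 256), (512, 256), (768, 256), (1024, 256), (1280, 256), (1536, 68)]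

theorem chk_mainTSp2 : chkCertRMain DTS CTSp2 = true := by
  apply chkCertRMain_of_blocks' DTS CTSp2 XNTSp2 HRTSp2 HQTSp2 hXNTSp2 hHRTSp2 hHQTSp2 chk_ATSp2 blTSp2
  · intro b hb
    simp only [blTSp2, List.mem_cons, List.not_mem_nil, or_false] at hb
    rcases hb with rfl | rfl | rfl | rfl | rfl | rfl | rfl
    · exact chk_blockTSp2_0
    · exact chk_blockTSp2_1
    · exact chk_blockTSp2_2
    · exact chk_blockTSp2_3
    · exact chk_blockTSp2_4
    · exact chk_blockTSp2_5
    · exact chk_blockTSp2_6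
  · decide +kernel

end Cfsg.Agent.Lib.Helper1.RuMu
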