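import Mathlib
import Cfsg.Agent.Lib.Helper1.RuMu.TSp5B0
import Cfsg.Agent.Lib.Helper1.RuMu.TSp5B1

set_option autoImplicit false
set_option maxRecDepth 100000
set_option maxHeartbeats 8000000

/-! Certificate TSp5: the main check. -/

namespace Cfsg.Agent.Lib.Helper1.RuMu

open Cfsg.Agent.Lib.Helper1

open Cfsg.Agent.Lib.Helper6.Mult Cfsg.Agent.Lib.Helper1.ChunkR StemZP

def blTSp5 : List (ℕ × ℕ) := [(0, 256), (256, 256), (512, 256), (768, 256), (1024, 256), (1280, 256), (1536, 68)]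

theorem chk_mainTSp5 : chkCertRMain DTS CTSp5 = true := by
  apply chkCertRMain_of_blocks' DTS CTSp5 XNTSp5 HRTSp5 HQTSp5 hXNTSp5 hHRTSp5 hHQTSp5 chk_ATSp5 blTSp5
  · intro b hb
    simp only [blTSp5, List.mem_cons, List.not_mem_nil, or_false] at hb
    rcases hb with rfl | rfl | rfl | rfl | rfl | rfl | rfl
    · exact chk_blockTSp5_0
    · exact chk_blockTSp5_1
    · exact chk_blockTSp5_2
    · exact chk_blockTSp5_3
    · exact chk_blockTSp5_4
    · exact chk_blockTSp5_5
    · exact chk_blockTSp5_6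
  · decide +kernel

end Cfsg.Agent.Lib.Helper1.RuMu
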