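import Mathlib
import Cfsg.Agent.Lib.Helper1.RuMu.TXp3B0
import Cfsg.Agent.Lib.Helper1.RuMu.TXp3B1

set_option autoImplicit false
set_option maxRecDepth 100000
set_option maxHeartbeats 8000000

/-! Certificate TXp3: the main check. -/

namespace Cfsg.Agent.Lib.Helper1.RuMu

open Cfsg.Agent.Lib.Helper1

open Cfsg.Agent.Lib.Helper6.Mult Cfsg.Agent.Lib.Helper1.ChunkR StemZP

def blTXp3 : List (ℕ × ℕ) := [(0, 256), (256, 256), (512, 256), (768, 256), (1024, 256), (1280, 256), (1536, 223)]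

theorem chk_mainTXp3 : chkCertRMain DTX CTXp3 = true := by
  apply chkCertRMain_of_blocks' DTX CTXp3 XNTXp3 HRTXp3 HQTXp3 hXNTXp3 hHRTXp3 hHQTXp3 chk_ATXp3 blTXp3
  · intro b hb
    simp only [blTXp3, List.mem_cons, List.not_mem_nil, or_false] at hb
    rcases hb with rfl | rfl | rfl | rfl | rfl | rfl | rfl
    · exact chk_blockTXp3_0
    · exact chk_blockTXp3_1
    · exact chk_blockTXp3_2
    · exact chk_blockTXp3_3
    · exact chk_blockTXp3_4
    · exact chk_blockTXp3_5
    · exact chk_blockTXp3_6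
  · decide +kernel

end Cfsg.Agent.Lib.Helper1.RuMu
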