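import Mathlib
import Cfsg.Agent.Lib.Helper1.RuMu.GA
import Cfsg.Agent.Lib.Helper1.RuMu.LM
import Cfsg.Agent.Lib.Helper1.RuMu.TXp3I
import Cfsg.Agent.Lib.Helper1.RuMu.TSp2I
import Cfsg.Agent.Lib.Helper1.RuMu.TSp5I
import Cfsg.Agent.Lib.Helper1.RuMu.LPp2I
import Cfsg.Agent.Lib.Helper6.Mult.PM4

set_option autoImplicit false
set_option maxRecDepth 100000

/-! The Tits group inside the Rudvalis group on 4060 points: it is perfect, and its stem extensions
with kernel a 2-group, a 3-group or a 5-group are trivial. -/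

namespace Cfsg.Agent.Lib.Helper1.RuMu

open Cfsg Cfsg.Agent.Lib.Helper1 Cfsg.Agent.Lib.Helper1.MatCode
open Cfsg.Agent.Lib.Helper6.TC Cfsg.Agent.Lib.Helper6.PM
open Cfsg.Agent.Lib.Helper1.SetAct Cfsg.Agent.Lib.Helper1.RuM Cfsg.Agent.Lib.Helper1.StemSA
  Cfsg.Agent.Lib.Helper1.Ru

open scoped Pointwise

universe u

/-! ### The Tits group is perfect -/

theorem gs_pair (M : PModel) : gs M [[0], [1]] = [(gs M [[0], [1]]).getD 0 1, (gs M [[0], [1]]).getD 1 1] :=
  rfl

theorem T_perfect : commutator tM.G = ⊤ := by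
  have hg : gs tM wsTX = [(gs tM wsTX).getD 0 1, (gs tM wsTX).getD 1 1] := gs_pair tM
  have hgen := hgen tM DTX wsTX pmT lwTX coreTX
  have hrel := hrel tM DTX wsTX pmT lwTX chk_structTX coreTX
  have hpow := hpow tM DTX wsTX pmT lwTX coreTX
  apply perfect_of_two_rels ((gs tM wsTX).getD 0 1) ((gs tM wsTX).getD 1 1) 13 _ (hpow 0 (by decide))
    (hpow 1 (by decide)) (relsTX.getD 0 ([], [])) (relsTX.getD 2 ([], []))
  · rw [← hg]
    exact hrel _ (by decide)
  · rw [← hg]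
    exact hrel _ (by decide)
  · decide
  · decide
  · rw [← hg]
    exact hgen

/-! ### The stem extensions with kernel a 3-group -/

/-- the stabilizer of the first of the 1755 points -/
noncomputable def KTX : Subgroup tM.G := MulAction.stabilizer tM.G (pt tM PLTX 0)

theorem card_KTX : Nat.card KTX = 10240 := by
  have h := card_stab_pts tM DTX chk_structTX wsTX pmT lwTX coreTX (by decide) PLTX PLITX chk_ptsTX
  rw [card_tM] at h
  have h3 : DTX.m = 1755 := rfl
  rw [h3] at h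
  unfold KTX
  omega

theorem T_bound3 (Γ : Type u) [Group Γ] [Finite Γ] (σ : Γ →* tM.G)
    (hσ : Cfsg.IsStemExtension σ) (hp : IsPGroup 3 σ.ker) : Nat.card σ.ker ≤ 1 := by
  haveI : Fact (Nat.Prime 3) := ⟨Nat.prime_three⟩
  have h := bound_pts_powP tM 3 DTX CTXp3 rfl chk_certTXp3 chk_structTX wsTX pmT lwTX coreTX
    (by decide) (by decide) PLTX PLITX chk_ptsTX 0 10240 (by decide) (by norm_num) KTX rfl
    (by rw [card_KTX]; norm_num) 1 (by rw [orderOf_one, pow_zero]) ⊤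
    (by rw [Subgroup.card_top, card_KTX])
    (fun x y => (QuotientGroup.subsingleton_quotient_top (G := ↥KTX)).elim _ _) Γ σ hσ hp
  have e : CTXp3.es.sum = 0 := rfl
  rw [e, pow_zero, mul_one] at h
  exact h

/-! ### The action on the 1600 sets -/

/-- the sets -/
def ptTS (j : ℕ) : Set (Fin tM.n) := ptL tM 12 351 (slT j)

theorem letter_lt (c : ℕ) (hc : c < 4) : ∀ x ∈ [c], x < tM.nl := by
  intro x hx
  rw [List.mem_singleton] at hx
  rw [hx]
  exact hc

theorem tM_tabs (c : ℕ) (hc : c < 4) :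
    (∀ p : Fin tM.n, ((tM.elt [c])⁻¹ • p).val = pmT c p.val) ∧
      (∀ p : Fin tM.n, (tM.elt [c] • p).val = pmT (iot c) p.val) :=
  letter_tables tM c (iot c) hc (iot_lt c hc) (invT c hc)

theorem pi_actTS : ∀ i < DTS.k, ∀ j < DTS.m,
    (gs tM wsTS).getD i 1 • ptTS j = ptTS (DTS.pi i j) := by
  intro i hi j hj
  have hi' : i < 2 := hi
  have hj' : j < 1600 := hj
  rw [gs_getD]
  interval_cases i
  · exact smul_set0 tM (tM.elt [0]) (tM_tabs 0 (by norm_num)).1 (tM_tabs 0 (by norm_num)).2 j hj'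
  · exact smul_set1 tM (tM.elt [1]) (tM_tabs 1 (by norm_num)).1 (tM_tabs 1 (by norm_num)).2 j hj'

theorem ptTS_inj : ∀ j < DTS.m, ∀ j' < DTS.m, ptTS j = ptTS j' → j = j' := by
  intro j hj j' hj' e
  have hj1 : j < 1600 := hj
  have hj2 : j' < 1600 := hj'
  exact ptL_inj_of_masks tM 12 351 slT 1601 masks_inj j (by omega) j' (by omega) e

/-- the stabilizer of the first set -/
noncomputable def KTS : Subgroup tM.G := MulAction.stabilizer tM.G (ptTS 0)

theorem hgenTS : Subgroup.closure {g : tM.G | ∃ i < DTS.k, g = (gs tM wsTS).getD i 1} = ⊤ :=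
  hgen tM DTS wsTS pmT lwTS coreTS

theorem card_KTS : Nat.card KTS = 11232 := by
  have h := StemOrb.card_stabilizer_mul DTS chk_structTS ptTS (gs tM wsTS) hgenTS pi_actTS
    (by decide) ptTS_inj
  rw [card_tM] at h
  have h3 : DTS.m = 1600 := rfl
  rw [h3] at h
  unfold KTS
  omega

theorem hordTS (p : ℕ) (hp13 : Nat.Coprime 13 p) : ∀ i < DTS.k,
    Nat.Coprime (DTS.ords.getD i 0) p ∧ ((gs tM wsTS).getD i 1) ^ (DTS.ords.getD i 0) = 1 := by
  intro i hi
  refine ⟨?_, hpow tM DTS wsTS pmT lwTS coreTS i hi⟩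
  have hi' : i < 2 := hi
  interval_cases i
  · exact hp13
  · exact hp13

theorem T_bound5 (Γ : Type u) [Group Γ] [Finite Γ] (σ : Γ →* tM.G)
    (hσ : Cfsg.IsStemExtension σ) (hp : IsPGroup 5 σ.ker) : Nat.card σ.ker ≤ 1 := by
  haveI : Fact (Nat.Prime 5) := ⟨by norm_num⟩
  obtain ⟨a, ha⟩ := IsPGroup.iff_card.mp hp
  have h := StemZP.card_ker_mul_le_powP 5 DTS 0
    (StemZP.valsBound_of_certR DTS CTSp5 chk_certTSp5) chk_structTS (by decide) ptTS (gs tM wsTS)
    hgenTS (fun j hj h => ptTS_inj j hj 0 (by decide) h) pi_actTS (hordTS 5 (by decide))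
    (hrel tM DTS wsTS pmT lwTS chk_structTS coreTS)
    0 11232 (by decide) (by norm_num) KTS rfl (by rw [card_KTS]; norm_num) 1
    (by rw [orderOf_one, pow_zero])
    ⊤ (by rw [Subgroup.card_top, card_KTS])
    (fun x y => (QuotientGroup.subsingleton_quotient_top (G := ↥KTS)).elim _ _) Γ σ hσ a ha
  rw [pow_zero, mul_one] at h
  exact h

/-! ### The subgroup `L3(3)` -/

/-- the subgroup `L3(3)` of the Tits group -/
noncomputable def LT : Subgroup tM.G := Helper6.PM.subH tM wsL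

theorem wsL_lt : ∀ i < 4, ∀ c ∈ wsL.getD i [], c < tM.nl := by
  intro i hi c hc
  apply tabL.1 (wsL.getD i []) _ c hc
  rw [List.getD_eq_getElem _ _ (by exact hi)]
  exact List.getElem_mem _

/-- the generators of the subgroup -/
noncomputable def gL (i : ℕ) : tM.G := tM.elt (wsL.getD i [])

theorem gL_inv_tab (i : ℕ) (hi : i < 4) (p : Fin tM.n) : ((gL i)⁻¹ • p).val = pmL i p.val := by
  unfold gL
  rw [tM.inv_elt_smul_val _ (wsL_lt i hi)]
  exact tabL.2 i hi p.val p.isLt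

theorem gL_two : gL 2 = (gL 0)⁻¹ := by
  unfold gL
  rw [wsL_inv.1]
  exact elt_invWord tM iot iot_lt invT _ (wsL_lt 0 (by norm_num))

theorem gL_three : gL 3 = (gL 1)⁻¹ := by
  unfold gL
  rw [wsL_inv.2]
  exact elt_invWord tM iot iot_lt invT _ (wsL_lt 1 (by norm_num))

theorem gL_tab0 (p : Fin tM.n) : (gL 0 • p).val = pmL 2 p.val := by
  have h := gL_inv_tab 2 (by norm_num) p
  rwa [gL_two, inv_inv] at h

theorem gL_tab1 (p : Fin tM.n) : (gL 1 • p).val = pmL 3 p.val := by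
  have h := gL_inv_tab 3 (by norm_num) p
  rwa [gL_three, inv_inv] at h

theorem LT_le_KTS : LT ≤ KTS := by
  unfold LT Helper6.PM.subH
  rw [Subgroup.closure_le]
  rintro _ ⟨i, hi, rfl⟩
  have hi' : i < 4 := hi
  have h0 : gL 0 ∈ KTS := by
    unfold KTS
    rw [MulAction.mem_stabilizer_iff]
    exact smul_ptL tM 12 351 (gL 0) (pmL 0) (pmL 2) (gL_inv_tab 0 (by norm_num)) gL_tab0 _ _ chk_aS0
  have h1 : gL 1 ∈ KTS := by
    unfold KTS
    rw [MulAction.mem_stabilizer_iff]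
    exact smul_ptL tM 12 351 (gL 1) (pmL 1) (pmL 3) (gL_inv_tab 1 (by norm_num)) gL_tab1 _ _ chk_hS0
  interval_cases i
  · exact h0
  · exact h1
  · show gL 2 ∈ _
    rw [gL_two]
    exact Subgroup.inv_mem _ h0
  · show gL 3 ∈ _
    rw [gL_three]
    exact Subgroup.inv_mem _ h1

/-- the family of the 468 pairs -/
def famE : Set (Set (Fin tM.n)) := famL tM 12 2 slE 468

theorem piE_lt : (∀ j < 468, piEa j < 468) ∧ (∀ j < 468, piEh j < 468) := by
  have h := chk_piE
  simp only [List.all_eq_true, List.mem_range, Bool.and_eq_true, decide_eq_true_eq] at h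
  exact ⟨fun j hj => (h j hj).1, fun j hj => (h j hj).2⟩

theorem LT_le_stab : LT ≤ MulAction.stabilizer tM.G famE := by
  unfold LT Helper6.PM.subH
  rw [Subgroup.closure_le]
  rintro _ ⟨i, hi, rfl⟩
  have hi' : i < 4 := hi
  have h0 : gL 0 ∈ MulAction.stabilizer tM.G famE :=
    mem_stabilizer_famL tM 12 2 slE 468 (gL 0) piEa piE_lt.1
      (smul_ptL_of_chk tM 12 2 (gL 0) (pmL 0) (pmL 2) (gL_inv_tab 0 (by norm_num)) gL_tab0 slE piEa
        468 chk_actEa)
  have h1 : gL 1 ∈ MulAction.stabilizer tM.G famE :=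
    mem_stabilizer_famL tM 12 2 slE 468 (gL 1) piEh piE_lt.2
      (smul_ptL_of_chk tM 12 2 (gL 1) (pmL 1) (pmL 3) (gL_inv_tab 1 (by norm_num)) gL_tab1 slE piEh
        468 chk_actEh)
  interval_cases i
  · exact h0
  · exact h1
  · show gL 2 ∈ _
    rw [gL_two]
    exact Subgroup.inv_mem _ h0
  · show gL 3 ∈ _
    rw [gL_three]
    exact Subgroup.inv_mem _ h1

/-- an element of the stabilizer of the set outside of the subgroup -/
noncomputable def g2 : tM.G := tM.elt wG2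

theorem wG2_lt : ∀ c ∈ wG2, c < tM.nl := by decide

theorem g2_tabs : (∀ p : Fin tM.n, (g2⁻¹ • p).val = wappS pmT wG2 p.val) ∧
    (∀ p : Fin tM.n, (g2 • p).val = wappS pmT wG2i p.val) := by
  obtain ⟨t1, t2⟩ := word_tables tM iot iot_lt invT wG2 wG2_lt
  constructor
  · intro p
    rw [wappS_eq]
    exact t1 p
  · intro p
    rw [wappS_eq, wG2i_eq]
    exact t2 p

theorem g2_mem_KTS : g2 ∈ KTS := by
  unfold KTS
  rw [MulAction.mem_stabilizer_iff]
  exact smul_ptL tM 12 351 g2 (fun q => wappS pmT wG2 q) (fun q => wappS pmT wG2i q)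
    g2_tabs.1 g2_tabs.2 _ _ chk_W2a

theorem g2_not_mem : g2 ∉ MulAction.stabilizer tM.G famE := by
  apply not_mem_stabilizer_famL tM 12 2 slE 468 g2 slE2 (by norm_num)
  · exact smul_ptL tM 12 2 g2 (fun q => wappS pmT wG2 q) (fun q => wappS pmT wG2i q)
      g2_tabs.1 g2_tabs.2 _ _ chk_W2b
  · intro j hj
    have h := chk_W2c
    simp only [List.all_eq_true, List.mem_range, decide_eq_true_eq] at h
    exact h j hj

theorem LT_ne_KTS : LT ≠ KTS := by
  intro h
  apply g2_not_mem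
  apply LT_le_stab
  rw [h]
  exact g2_mem_KTS

theorem card_LT : Nat.card LT = 5616 :=
  card_eq_of_ge_of_ne KTS LT LT_le_KTS LT_ne_KTS 5616 (by rw [card_KTS]) card_L_ge

theorem card_lM : Nat.card lM.G = 5616 := card_LT

theorem L_perfect : commutator lM.G = ⊤ := by
  have hg : gs lM wsLP = [(gs lM wsLP).getD 0 1, (gs lM wsLP).getD 1 1] := gs_pair lM
  have hgen := hgen lM DLP wsLP pmL lwLP coreLP
  have hrel := hrel lM DLP wsLP pmL lwLP chk_structLP coreLP
  have hpow := hpow lM DLP wsLP pmL lwLP coreLP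
  apply perfect_of_two_rels ((gs lM wsLP).getD 0 1) ((gs lM wsLP).getD 1 1) 13 _ (hpow 0 (by decide))
    (hpow 1 (by decide)) (relsLP.getD 0 ([], [])) (relsLP.getD 1 ([], []))
  · rw [← hg]
    exact hrel _ (by decide)
  · rw [← hg]
    exact hrel _ (by decide)
  · decide
  · decide
  · rw [← hg]
    exact hgen

/-- the stabilizer of the first of the 432 points -/
noncomputable def KLP : Subgroup lM.G := MulAction.stabilizer lM.G (pt lM PLLP 0)

theorem card_KLP : Nat.card KLP = 13 := by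
  have h := card_stab_pts lM DLP chk_structLP wsLP pmL lwLP coreLP (by decide) PLLP PLILP chk_ptsLP
  rw [card_lM] at h
  have h3 : DLP.m = 432 := rfl
  rw [h3] at h
  unfold KLP
  omega

theorem L_bound2 (Γ : Type u) [Group Γ] [Finite Γ] (σ : Γ →* lM.G)
    (hσ : Cfsg.IsStemExtension σ) (hp : IsPGroup 2 σ.ker) : Nat.card σ.ker ≤ 1 := by
  haveI : Fact (Nat.Prime 2) := ⟨Nat.prime_two⟩
  have h := bound_pts_powP lM 2 DLP CLPp2 rfl chk_certLPp2 chk_structLP wsLP pmL lwLP coreLP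
    (by decide) (by decide) PLLP PLILP chk_ptsLP 0 13 (by decide) (by norm_num) KLP rfl
    (by rw [card_KLP]; norm_num) 1 (by rw [orderOf_one, pow_zero]) ⊤
    (by rw [Subgroup.card_top, card_KLP])
    (fun x y => (QuotientGroup.subsingleton_quotient_top (G := ↥KLP)).elim _ _) Γ σ hσ hp
  have e : CLPp2.es.sum = 0 := rfl
  rw [e, pow_zero, mul_one] at h
  exact h

/-! ### The stem extensions with kernel a 2-group -/

theorem T_bound2 (Γ : Type u) [Group Γ] [Finite Γ] (σ : Γ →* tM.G)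
    (hσ : Cfsg.IsStemExtension σ) (hp : IsPGroup 2 σ.ker) : Nat.card σ.ker ≤ 1 := by
  haveI : Fact (Nat.Prime 2) := ⟨Nat.prime_two⟩
  obtain ⟨a, ha⟩ := IsPGroup.iff_card.mp hp
  haveI : Finite KTS := inferInstance
  obtain ⟨Q, iQ, iC, q, hq, hQ, hker⟩ := exists_quot_two KTS LT LT_le_KTS
    (by rw [card_KTS, card_LT])
  have h := Cfsg.Agent.Lib.Helper6.Mult.card_ker_mul_le_pow_mul_vals 2 DTS 1
    (StemZP.valsBound_of_certR DTS CTSp2 chk_certTSp2) chk_structTS (by decide) ptTS (gs tM wsTS)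
    hgenTS (fun j hj h => ptTS_inj j hj 0 (by decide) h) pi_actTS (hordTS 2 (by decide))
    (hrel tM DTS wsTS pmT lwTS chk_structTS coreTS)
    KTS rfl q hq 1 hQ LT LT_le_KTS hker L_perfect 1
    (fun Γ' _ _ σ' hσ' hk => L_bound2 Γ' σ' hσ' hk) Γ σ hσ a ha
  omega

end Cfsg.Agent.Lib.Helper1.RuMu
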