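import Mathlib
import Cfsg.Agent.Lib.Helper1.RuMu.RUTp2K0_2
import Cfsg.Agent.Lib.Helper1.RuMu.RUTD
import Cfsg.Agent.Lib.Helper1.RuMu.RUTp2Y0_3
import Cfsg.Agent.Lib.Helper6.Mult.Chunk

set_option autoImplicit false
set_option maxRecDepth 100000
set_option maxHeartbeats 8000000

/-! Certificate RUTp2: check of the chunk 3 of the combination modulo 8 of the distinguished unknown 0. -/

namespace Cfsg.Agent.Lib.Helper1.RuMu

open Cfsg.Agent.Lib.Helper1

theorem chunkRUTp2_0_3 : Cfsg.Agent.Lib.Helper6.Mult.chunkOK DRUT 8 ysRUTp2_0_3 LRUTp2_0_3 TRUTp2_0_3 = true := by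
  decide +kernel

end Cfsg.Agent.Lib.Helper1.RuMu
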