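import Mathlib
import Cfsg.Agent.Lib.Helper1.RuMu.RUTp2M
import Cfsg.Agent.Lib.Helper1.RuMu.RUTp2K0_0
import Cfsg.Agent.Lib.Helper1.RuMu.RUTp2K0_1
import Cfsg.Agent.Lib.Helper1.RuMu.RUTp2K0_2
import Cfsg.Agent.Lib.Helper1.RuMu.RUTp2K0_3
import Cfsg.Agent.Lib.Helper1.RuMu.RUTp2K0_4
import Cfsg.Agent.Lib.Helper1.RuMu.RUTp2K0_5
import Cfsg.Agent.Lib.Helper1.RuMu.RUTp2K0_6
import Cfsg.Agent.Lib.Helper1.RuMu.RUTp2K0_7

set_option autoImplicit false
set_option maxRecDepth 100000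
set_option maxHeartbeats 8000000

/-! Certificate RUTp2: the checks of the combinations modulo 8 and the full certificate. -/

namespace Cfsg.Agent.Lib.Helper1.RuMu

open Cfsg.Agent.Lib.Helper1

open Cfsg.Agent.Lib.Helper6.Mult StemZP

theorem chunksRUTp2_0 : ∀ t ∈ trRUTp2_0, chunkOK DRUT 8 t.1 t.2.1 t.2.2 = true := by
  intro t ht
  simp only [trRUTp2_0, List.mem_cons, List.not_mem_nil, or_false] at ht
  rcases ht with rfl | rfl | rfl | rfl | rfl | rfl | rfl | rfl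
  · exact chunkRUTp2_0_0
  · exact chunkRUTp2_0_1
  · exact chunkRUTp2_0_2
  · exact chunkRUTp2_0_3
  · exact chunkRUTp2_0_4
  · exact chunkRUTp2_0_5
  · exact chunkRUTp2_0_6
  · exact chunkRUTp2_0_7

theorem hTRUTp2_0 : (trRUTp2_0.map fun t => t.2.2).sum < StemZD.X := by decide +kernel

theorem hdigRUTp2_0 : ((List.range DRUT.n).all fun c =>
    (trRUTp2_0.map fun t => t.2.1).sum / StemZD.X ^ c % StemZD.X % 8 == if c = 8119 then 4 else 0) = true := by
  decide +kernel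

theorem chk_relRUTp2_0 : chkRel DRUT CRUTp2.toP (trRUTp2_0.map fun t => t.1).flatten 8119 2 = true :=
  chkRel_of_chunks DRUT CRUTp2.toP trRUTp2_0 8119 2 chunksRUTp2_0 hTRUTp2_0 hdigRUTp2_0

theorem chk_certRUTp2 : chkCertR DRUT CRUTp2 = true := by
  apply chkCertR_of_main DRUT CRUTp2 chk_mainRUTp2
  show (List.range 1).all _ = true
  have e : List.range 1 = [0] := rfl
  rw [e]
  simp only [List.all_cons, List.all_nil, Bool.and_true, Bool.and_eq_true]
  exact chk_relRUTp2_0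

end Cfsg.Agent.Lib.Helper1.RuMu
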