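import Mathlib
import Cfsg.Agent.Lib.Helper1.RuMu.RUTp3B0
import Cfsg.Agent.Lib.Helper1.RuMu.RUTp3B1
import Cfsg.Agent.Lib.Helper1.RuMu.RUTp3B2
import Cfsg.Agent.Lib.Helper1.RuMu.RUTp3B3

set_option autoImplicit false
set_option maxRecDepth 100000
set_option maxHeartbeats 8000000

/-! Certificate RUTp3: the main check. -/

namespace Cfsg.Agent.Lib.Helper1.RuMu

open Cfsg.Agent.Lib.Helper1

open Cfsg.Agent.Lib.Helper6.Mult Cfsg.Agent.Lib.Helper1.ChunkR StemZP

def blRUTp3 : List (ℕ × ℕ) := [(0, 256), (256, 256), (512, 256), (768, 256), (1024, 256), (1280, 256), (1536, 256), (1792, 256), (2048, 256), (2304, 256), (2560, 256), (2816, 256), (3072, 256), (3328, 256), (3584, 256), (3840, 225)]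

theorem chk_mainRUTp3 : chkCertRMain DRUT CRUTp3 = true := by
  apply chkCertRMain_of_blocks' DRUT CRUTp3 XNRUTp3 HRRUTp3 HQRUTp3 hXNRUTp3 hHRRUTp3 hHQRUTp3 chk_ARUTp3 blRUTp3
  · intro b hb
    simp only [blRUTp3, List.mem_cons, List.not_mem_nil, or_false] at hb
    rcases hb with rfl | rfl | rfl | rfl | rfl | rfl | rfl | rfl | rfl | rfl | rfl | rfl | rfl | rfl | rfl | rfl
    · exact chk_blockRUTp3_0
    · exact chk_blockRUTp3_1
    · exact chk_blockRUTp3_2
    · exact chk_blockRUTp3_3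
    · exact chk_blockRUTp3_4
    · exact chk_blockRUTp3_5
    · exact chk_blockRUTp3_6
    · exact chk_blockRUTp3_7
    · exact chk_blockRUTp3_8
    · exact chk_blockRUTp3_9
    · exact chk_blockRUTp3_10
    · exact chk_blockRUTp3_11
    · exact chk_blockRUTp3_12
    · exact chk_blockRUTp3_13
    · exact chk_blockRUTp3_14
    · exact chk_blockRUTp3_15
  · decide +kernel

end Cfsg.Agent.Lib.Helper1.RuMu
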