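import Mathlib
import Cfsg.Agent.Lib.Helper1.RuMu.RUTp5B1
import Cfsg.Agent.Lib.Helper1.RuMu.RUTp5H

set_option autoImplicit false
set_option maxRecDepth 100000
set_option maxHeartbeats 8000000

/-! Certificate RUTp5: the main check, blocks 8.. -/

namespace Cfsg.Agent.Lib.Helper1.RuMu

open Cfsg.Agent.Lib.Helper1

open Cfsg.Agent.Lib.Helper6.Mult Cfsg.Agent.Lib.Helper1.ChunkR StemZP

theorem chk_blockRUTp5_8 : chkBlock DRUT CRUTp5 XNRUTp5 HRRUTp5 HQRUTp5 2048 256 = true := by decide +kernel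

theorem chk_blockRUTp5_9 : chkBlock DRUT CRUTp5 XNRUTp5 HRRUTp5 HQRUTp5 2304 256 = true := by decide +kernel

theorem chk_blockRUTp5_10 : chkBlock DRUT CRUTp5 XNRUTp5 HRRUTp5 HQRUTp5 2560 256 = true := by decide +kernel

theorem chk_blockRUTp5_11 : chkBlock DRUT CRUTp5 XNRUTp5 HRRUTp5 HQRUTp5 2816 256 = true := by decide +kernel


end Cfsg.Agent.Lib.Helper1.RuMu
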