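import Mathlib
import Cfsg.Agent.Lib.Helper1.RuMu.RUTp5B0
import Cfsg.Agent.Lib.Helper1.RuMu.RUTp5B1
import Cfsg.Agent.Lib.Helper1.RuMu.RUTp5B2
import Cfsg.Agent.Lib.Helper1.RuMu.RUTp5B3

set_option autoImplicit false
set_option maxRecDepth 100000
set_option maxHeartbeats 8000000

/-! Certificate RUTp5: the main check. -/

namespace Cfsg.Agent.Lib.Helper1.RuMu

open Cfsg.Agent.Lib.Helper1

open Cfsg.Agent.Lib.Helper6.Mult Cfsg.Agent.Lib.Helper1.ChunkR StemZP

def blRUTp5 : List (ℕ × ℕ) := [(0, 256), (256, 256), (512, 256), (768, 256), (1024, 256), (1280, 256), (1536, 256), (1792, 256), (2048, 256), (2304, 256), (2560, 256), (2816, 256), (3072, 256), (3328, 256), (3584, 256), (3840, 225)]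

theorem chk_mainRUTp5 : chkCertRMain DRUT CRUTp5 = true := by
  apply chkCertRMain_of_blocks' DRUT CRUTp5 XNRUTp5 HRRUTp5 HQRUTp5 hXNRUTp5 hHRRUTp5 hHQRUTp5 chk_ARUTp5 blRUTp5
  · intro b hb
    simp only [blRUTp5, List.mem_cons, List.not_mem_nil, or_false] at hb
    rcases hb with rfl | rfl | rfl | rfl | rfl | rfl | rfl | rfl | rfl | rfl | rfl | rfl | rfl | rfl | rfl | rfl
    · exact chk_blockRUTp5_0
    · exact chk_blockRUTp5_1
    · exact chk_blockRUTp5_2
    · exact chk_blockRUTp5_3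
    · exact chk_blockRUTp5_4
    · exact chk_blockRUTp5_5
    · exact chk_blockRUTp5_6
    · exact chk_blockRUTp5_7
    · exact chk_blockRUTp5_8
    · exact chk_blockRUTp5_9
    · exact chk_blockRUTp5_10
    · exact chk_blockRUTp5_11
    · exact chk_blockRUTp5_12
    · exact chk_blockRUTp5_13
    · exact chk_blockRUTp5_14
    · exact chk_blockRUTp5_15
  · decide +kernel

end Cfsg.Agent.Lib.Helper1.RuMu
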