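import Mathlib
import Cfsg.Agent.Lib.Helper1.RuMu.RUTp5M

set_option autoImplicit false
set_option maxRecDepth 100000
set_option maxHeartbeats 8000000

/-! Certificate RUTp5: the checks of the combinations modulo 25 and the full certificate. -/

namespace Cfsg.Agent.Lib.Helper1.RuMu

open Cfsg.Agent.Lib.Helper1

open Cfsg.Agent.Lib.Helper6.Mult StemZP

theorem chk_certRUTp5 : chkCertR DRUT CRUTp5 = true := by
  apply chkCertR_of_main DRUT CRUTp5 chk_mainRUTp5
  show (List.range 0).all _ = true
  rfl

end Cfsg.Agent.Lib.Helper1.RuMu
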