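import Mathlib
import Cfsg.Agent.Lib.Helper1.RuMu.GB
import Cfsg.Agent.Lib.Helper1.RuMu.RUTp2I
import Cfsg.Agent.Lib.Helper1.RuMu.RUTp3I
import Cfsg.Agent.Lib.Helper1.RuMu.RUTp5I
import Cfsg.Agent.Lib.Helper1.Stem17
import Cfsg.Agent.Lib.Helper1.Stem21

set_option autoImplicit false
set_option maxRecDepth 100000

/-! The Rudvalis group on 4060 points: the kernel of every stem extension is cyclic of order
dividing two. -/

namespace Cfsg.Agent.Lib.Helper1.RuMu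

open Cfsg Cfsg.Agent.Lib.Helper1 Cfsg.Agent.Lib.Helper1.MatCode
open Cfsg.Agent.Lib.Helper6.TC Cfsg.Agent.Lib.Helper6.PM
open Cfsg.Agent.Lib.Helper1.SetAct Cfsg.Agent.Lib.Helper1.RuM Cfsg.Agent.Lib.Helper1.StemSA
  Cfsg.Agent.Lib.Helper1.Ru
  Cfsg.Agent.Lib.Helper1.Stem

universe u

theorem TR_perfect : commutator ↥TR = ⊤ := T_perfect

theorem hordRUT (p : ℕ) (hp29 : Nat.Coprime 29 p) : ∀ i < DRUT.k,
    Nat.Coprime (DRUT.ords.getD i 0) p := by
  intro i hi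
  have hi' : i < 2 := hi
  interval_cases i
  · exact hp29
  · exact hp29

theorem Ru_bound3 (Γ : Type u) [Group Γ] [Finite Γ] (σ : Γ →* ruM0.G)
    (hσ : Cfsg.IsStemExtension σ) (hp : IsPGroup 3 σ.ker) : Nat.card σ.ker ≤ 1 := by
  haveI : Fact (Nat.Prime 3) := ⟨Nat.prime_three⟩
  obtain ⟨Q, iQ, iC, q, hq, hQ, hker⟩ := exists_quot_two KR TR TR_le_KR
    (by rw [card_KR, card_TR])
  have h := bound_pts_cyc ruM0 3 DRUT CRUTp3 rfl chk_certRUTp3 chk_structRUT wsRUT RuM.px lwRUT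
    coreRUT (by decide) (hordRUT 3 (by decide)) PLRUT PLIRUT chk_ptsRUT KR rfl q TR TR_le_KR hker
    TR_perfect 1 (fun Γ' _ _ σ' hσ' hk => T_bound3 Γ' σ' hσ' hk) Γ σ hσ hp
  have e : CRUTp3.es.sum = 0 := rfl
  rw [e, pow_zero, mul_one] at h
  exact h

theorem Ru_bound5 (Γ : Type u) [Group Γ] [Finite Γ] (σ : Γ →* ruM0.G)
    (hσ : Cfsg.IsStemExtension σ) (hp : IsPGroup 5 σ.ker) : Nat.card σ.ker ≤ 1 := by
  haveI : Fact (Nat.Prime 5) := ⟨by norm_num⟩
  obtain ⟨Q, iQ, iC, q, hq, hQ, hker⟩ := exists_quot_two KR TR TR_le_KR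
    (by rw [card_KR, card_TR])
  have h := bound_pts_cyc ruM0 5 DRUT CRUTp5 rfl chk_certRUTp5 chk_structRUT wsRUT RuM.px lwRUT
    coreRUT (by decide) (hordRUT 5 (by decide)) PLRUT PLIRUT chk_ptsRUT KR rfl q TR TR_le_KR hker
    TR_perfect 1 (fun Γ' _ _ σ' hσ' hk => T_bound5 Γ' σ' hσ' hk) Γ σ hσ hp
  have e : CRUTp5.es.sum = 0 := rfl
  rw [e, pow_zero, mul_one] at h
  exact h

theorem Ru_bound2 (Γ : Type u) [Group Γ] [Finite Γ] (σ : Γ →* ruM0.G)
    (hσ : Cfsg.IsStemExtension σ) (hp : IsPGroup 2 σ.ker) : Nat.card σ.ker ≤ 2 := by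
  haveI : Fact (Nat.Prime 2) := ⟨Nat.prime_two⟩
  obtain ⟨Q, iQ, iC, q, hq, hQ, hker⟩ := exists_quot_two KR TR TR_le_KR
    (by rw [card_KR, card_TR])
  have h := bound_pts_n2 ruM0 2 DRUT CRUTp2 rfl chk_certRUTp2 chk_structRUT wsRUT RuM.px lwRUT
    coreRUT (by decide) (hordRUT 2 (by decide)) PLRUT PLIRUT chk_ptsRUT KR rfl q hq 1 hQ TR TR_le_KR
    hker TR_perfect 1 (fun Γ' _ _ σ' hσ' hk => T_bound2 Γ' σ' hσ' hk) Γ σ hσ hp
  have e : CRUTp2.es.sum = 2 := rfl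
  rw [e] at h
  omega

theorem card_ruM0 : Nat.card ruM0.G = 2 ^ 14 * 3 ^ 3 * 5 ^ 3 * 7 * 13 * 29 := by
  have h : Nat.card ruM0.G = 145926144000 := card_H
  rw [h]
  norm_num

theorem not_sq_dvd_Ru (p : ℕ) (hp : p.Prime) (h2 : p ≠ 2) (h3 : p ≠ 3) (h5 : p ≠ 5) :
    ¬ p * p ∣ Nat.card ruM0.G := by
  intro h
  have hd : p ∣ Nat.card ruM0.G := Dvd.dvd.trans (Dvd.intro _ rfl) h
  have hN : Nat.card ruM0.G = 145926144000 := card_H
  rw [card_ruM0] at hd
  have key : ∀ q : ℕ, q.Prime → p ∣ q → p = q := fun q hq hpq =>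
    (Nat.prime_dvd_prime_iff_eq hp hq).mp hpq
  rcases (Nat.Prime.dvd_mul hp).mp hd with hd | hd
  · rcases (Nat.Prime.dvd_mul hp).mp hd with hd | hd
    · rcases (Nat.Prime.dvd_mul hp).mp hd with hd | hd
      · rcases (Nat.Prime.dvd_mul hp).mp hd with hd | hd
        · rcases (Nat.Prime.dvd_mul hp).mp hd with hd | hd
          · exact h2 (key 2 Nat.prime_two (hp.dvd_of_dvd_pow hd))
          · exact h3 (key 3 Nat.prime_three (hp.dvd_of_dvd_pow hd))
        · exact h5 (key 5 (by norm_num) (hp.dvd_of_dvd_pow hd))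
      · have := key 7 (by norm_num) hd
        subst this
        rw [hN] at h
        revert h
        norm_num
    · have := key 13 (by norm_num) hd
      subst this
      rw [hN] at h
      revert h
      norm_num
  · have := key 29 (by norm_num) hd
    subst this
    rw [hN] at h
    revert h
    norm_num

theorem primary_bound_Ru (p : ℕ) [hp : Fact p.Prime] (Γ' : Type u) [Group Γ'] [Finite Γ']
    (σ' : Γ' →* ruM0.G) (hσ' : Cfsg.IsStemExtension σ') (hk : IsPGroup p σ'.ker) :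
    Nat.card σ'.ker ∣ 2 := by
  have key : Nat.card σ'.ker ≤ 1 → Nat.card σ'.ker ∣ 2 := by
    intro hle
    have hpos : 0 < Nat.card σ'.ker := Nat.card_pos
    have h1 : Nat.card σ'.ker = 1 := by omega
    rw [h1]
    norm_num
  by_cases h2 : p = 2
  · subst h2
    have hle := Ru_bound2 Γ' σ' hσ' hk
    have hpos : 0 < Nat.card σ'.ker := Nat.card_pos
    have h12 : Nat.card σ'.ker = 1 ∨ Nat.card σ'.ker = 2 := by omega
    rcases h12 with h | h
    · rw [h]; norm_num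
    · rw [h]
  · by_cases h3 : p = 3
    · subst h3
      exact key (Ru_bound3 Γ' σ' hσ' hk)
    · by_cases h5 : p = 5
      · subst h5
        exact key (Ru_bound5 Γ' σ' hσ' hk)
      · have h1 : Nat.card σ'.ker = 1 := by
          apply card_ker_eq_one_of_not_sq_dvd σ' hσ' p hk
          exact not_sq_dvd_Ru p hp.out h2 h3 h5
        rw [h1]
        norm_num

/-- the kernel of a stem extension of the Rudvalis group on 4060 points is cyclic of order
dividing two -/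
theorem hub_Ru (Γ : Type u) [Group Γ] [Finite Γ] (σ : Γ →* ruM0.G)
    (hσ : Cfsg.IsStemExtension σ) : IsCyclic σ.ker ∧ Nat.card σ.ker ∣ 2 := by
  have hd : Nat.card σ.ker ∣ 2 := card_dvd_of_primary σ 2 (by norm_num)
    (fun p _ Γ' _ _ σ' hσ' hk => primary_bound_Ru p Γ' σ' hσ' hk) hσ
  refine ⟨?_, hd⟩
  have hle := Nat.le_of_dvd (by norm_num) hd
  have hpos : 0 < Nat.card σ.ker := Nat.card_pos
  have h12 : Nat.card σ.ker = 1 ∨ Nat.card σ.ker = 2 := by omega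
  rcases h12 with h | h
  · haveI : Subsingleton σ.ker := (Nat.card_eq_one_iff_unique.mp h).1
    exact isCyclic_of_subsingleton
  · exact isCyclic_of_prime_card (p := 2) h

end Cfsg.Agent.Lib.Helper1.RuMu
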