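import Mathlib
import Cfsg.Agent.Lib.Helper1.RuL26
import Cfsg.Agent.Lib.Helper1.RuM2
import Cfsg.Agent.Lib.Helper6.Mult.PM4

set_option autoImplicit false
set_option maxRecDepth 100000

/-! The Rudvalis group: the commutator subgroup of the group of automorphisms of the lattice is a
stem extension of the group on 4060 points, and the multiplication by `-1` is in its kernel. -/

namespace Cfsg.Agent.Lib.Helper1.RuMu

open Cfsg Cfsg.Spor Cfsg.Agent.Lib.Helper1 Cfsg.Agent.Lib.Helper1.MatCode
open Cfsg.Agent.Lib.Helper6.TC Cfsg.Agent.Lib.Helper6.PM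
open Cfsg.Agent.Lib.Helper5.Chain
open Cfsg.Agent.Lib.Helper1.RuM Cfsg.Agent.Lib.Helper1.RuLat Cfsg.Agent.Lib.Helper1.Ru

open scoped commutatorElement

/-! ### A general construction of stem extensions -/

section general

variable {A G : Type*} [Group A] [Group G]

theorem commutatorElement_mul_central_left (a b z : A) (hz : z ∈ Subgroup.center A) :
    ⁅a * z, b⁆ = ⁅a, b⁆ := by
  have h1 : z * b = b * z := (Subgroup.mem_center_iff.mp hz b).symm
  rw [commutatorElement_def, commutatorElement_def]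
  calc a * z * b * (a * z)⁻¹ * b⁻¹ = a * (z * b) * (z⁻¹ * a⁻¹) * b⁻¹ := by group
    _ = a * (b * z) * (z⁻¹ * a⁻¹) * b⁻¹ := by rw [h1]
    _ = a * b * a⁻¹ * b⁻¹ := by group

theorem commutatorElement_mul_central_right (a b z : A) (hz : z ∈ Subgroup.center A) :
    ⁅a, b * z⁆ = ⁅a, b⁆ := by
  have h1 : z * a⁻¹ = a⁻¹ * z := (Subgroup.mem_center_iff.mp hz a⁻¹).symm
  rw [commutatorElement_def, commutatorElement_def]
  calc a * (b * z) * a⁻¹ * (b * z)⁻¹ = a * b * (z * a⁻¹) * (z⁻¹ * b⁻¹) := by group
    _ = a * b * (a⁻¹ * z) * (z⁻¹ * b⁻¹) := by rw [h1]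
    _ = a * b * a⁻¹ * b⁻¹ := by group

variable (f : A →* G) (hf : Function.Surjective f) (hker : f.ker ≤ Subgroup.center A)
  (hG : commutator G = ⊤)

include hf hG in
theorem exists_commutator_rep (a : A) : ∃ c ∈ commutator A, f c = f a := by
  have h1 : (commutator A).map f = commutator G := by
    rw [commutator_def, commutator_def, Subgroup.map_commutator,
      Subgroup.map_top_of_surjective f hf]
  have h2 : f a ∈ (commutator A).map f := by rw [h1, hG]; exact Subgroup.mem_top _
  obtain ⟨c, hc, e⟩ := h2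
  exact ⟨c, hc, e⟩

include hf hker hG in
/-- the commutator subgroup of a group whose quotient by a central subgroup is perfect is perfect -/
theorem commutator_commutator_eq_top : commutator ↥(commutator A) = ⊤ := by
  set Γ := commutator A with hΓ
  have key : commutator A ≤ (commutator ↥Γ).map Γ.subtype := by
    rw [commutator_eq_closure, Subgroup.closure_le]
    rintro g ⟨a, b, rfl⟩
    obtain ⟨a', ha', ea⟩ := exists_commutator_rep f hf hG a
    obtain ⟨b', hb', eb⟩ := exists_commutator_rep f hf hG b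
    have hza : a'⁻¹ * a ∈ Subgroup.center A := by
      apply hker
      rw [MonoidHom.mem_ker, map_mul, map_inv, ea, inv_mul_cancel]
    have hzb : b'⁻¹ * b ∈ Subgroup.center A := by
      apply hker
      rw [MonoidHom.mem_ker, map_mul, map_inv, eb, inv_mul_cancel]
    have e1 : a = a' * (a'⁻¹ * a) := by group
    have e2 : b = b' * (b'⁻¹ * b) := by group
    have e3 : ⁅a, b⁆ = ⁅a', b'⁆ := by
      rw [e1, e2, commutatorElement_mul_central_left _ _ _ hza,
        commutatorElement_mul_central_right _ _ _ hzb]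
    rw [e3]
    refine ⟨⁅(⟨a', ha'⟩ : ↥Γ), (⟨b', hb'⟩ : ↥Γ)⁆, ?_, rfl⟩
    rw [commutator_def]
    exact Subgroup.commutator_mem_commutator (Subgroup.mem_top _) (Subgroup.mem_top _)
  rw [eq_top_iff]
  intro x _
  obtain ⟨y, hy, e⟩ := key x.property
  have : y = x := Subtype.ext e
  rw [← this]
  exact hy

include hf hker hG in
/-- the stem extension of a perfect quotient by a central subgroup -/
theorem isStem_commutator : Cfsg.IsStemExtension (f.comp (commutator A).subtype) := by
  refine ⟨?_, ?_, ?_⟩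
  · intro y
    obtain ⟨a, rfl⟩ := hf y
    obtain ⟨c, hc, e⟩ := exists_commutator_rep f hf hG a
    exact ⟨⟨c, hc⟩, e⟩
  · intro x hx
    rw [Subgroup.mem_center_iff]
    intro g
    have h1 : x.val ∈ Subgroup.center A := by
      apply hker
      rw [MonoidHom.mem_ker] at hx ⊢
      exact hx
    apply Subtype.ext
    exact Subgroup.mem_center_iff.mp h1 g.val
  · rw [commutator_commutator_eq_top f hf hker hG]
    exact le_top

end general

/-! ### The two automorphisms and their words -/

/-- the first automorphism -/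
noncomputable def xG : G4 := Xg DX_valid xP imgX_pi

/-- the second automorphism -/
noncomputable def yG : G4 := Xg DY_valid yP imgY_pi

theorem rho_xG : rho xG = xP := rho_Xg DX_valid xP imgX_pi

theorem rho_yG : rho yG = yP := rho_Xg DY_valid yP imgY_pi

/-- the vector of a code -/
noncomputable def mvc (c : ℕ) : RuVec := minV (c / 4) (c % 4)

/-- the action on the codes -/
def cact (img c : ℕ) : ℕ := 4 * (imgc img (c / 4) / 4) + (imgc img (c / 4) % 4 + c % 4) % 4

theorem Xg_mvc {D : XDat} (h : D.Valid) (π : P4060)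
    (hπ : ∀ j : Fin 4060, imgc D.img j.val / 4 = (π j).val) (v : RL) (c : ℕ) (hc : c < 16240)
    (hv : v.val = mvc c) :
    ((Xg h π hπ).val v).val = mvc (cact D.img c) ∧ cact D.img c < 16240 := by
  have hj : c / 4 < 4060 := by omega
  have hu : c % 4 < 4 := Nat.mod_lt _ (by norm_num)
  have hl := (h.line_img (c / 4) hj).1
  have hm : (imgc D.img (c / 4) % 4 + c % 4) % 4 < 4 := Nat.mod_lt _ (by norm_num)
  constructor
  · show XtV D.codes v.val = _
    rw [hv, mvc, XtV_minV h (c / 4) hj (c % 4) hu, mvc, cact]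
    congr 1 <;> omega
  · unfold cact
    omega

/-- the action of a word on the codes -/
def wcode : List ℕ → ℕ → ℕ
  | [], c => c
  | l :: w, c => cact (if l = 0 then DX.img else DY.img) (wcode w c)

theorem wordG_mvc (w : List ℕ) (hw : ∀ l ∈ w, l < 2) (v : RL) (c : ℕ) (hc : c < 16240)
    (hv : v.val = mvc c) :
    ((wordProd [xG, yG] w).val v).val = mvc (wcode w c) ∧ wcode w c < 16240 := by
  induction w with
  | nil =>
    rw [wordProd_nil]
    exact ⟨hv, hc⟩
  | cons l w ih =>
    obtain ⟨h1, h2⟩ := ih (fun l' hl' => hw l' (List.mem_cons_of_mem _ hl'))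
    have hl : l < 2 := hw l List.mem_cons_self
    rw [wordProd_cons, Subgroup.coe_mul, Equiv.Perm.mul_apply]
    interval_cases l
    · exact Xg_mvc DX_valid xP imgX_pi _ _ h2 h1
    · exact Xg_mvc DY_valid yP imgY_pi _ _ h2 h1

theorem rho_wordG (w : List ℕ) (hw : ∀ l ∈ w, l < 2) :
    rho (wordProd [xG, yG] w) = ruM0.phi (ruM0.elt w) := by
  induction w with
  | nil =>
    rw [wordProd_nil, map_one, ruM0.elt_nil, map_one]
    rfl
  | cons l w ih =>
    have hl : l < 2 := hw l List.mem_cons_self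
    rw [wordProd_cons, map_mul, ih (fun l' hl' => hw l' (List.mem_cons_of_mem _ hl')),
      ruM0.elt_cons l w, map_mul]
    congr 1
    interval_cases l
    · exact rho_xG
    · exact rho_yG

/-- the first word -/
def wA : List ℕ := (List.replicate 7 [0, 1]).flatten

/-- the second word -/
def wB : List ℕ :=
  (List.replicate 7 ((List.replicate 7 [0, 1]).flatten ++ (List.replicate 7 [1, 0]).flatten)).flatten

theorem wAB_lt : (∀ l ∈ wA ++ wB, l < 2) ∧ (∀ l ∈ wB ++ wA, l < 2) := by decide

theorem chk_baseAB : ([0, 1, 2, 4].all fun b =>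
    wappS RuM.pm (wA ++ wB) b == wappS RuM.pm (wB ++ wA) b) = true := by decide +kernel

theorem elt_AB : ruM0.elt (wA ++ wB) = ruM0.elt (wB ++ wA) := by
  have h1 : ∀ l ∈ wA ++ wB, l < ruM0.nl := fun l hl => lt_trans (wAB_lt.1 l hl) (by decide)
  have h2 : ∀ l ∈ wB ++ wA, l < ruM0.nl := fun l hl => lt_trans (wAB_lt.2 l hl) (by decide)
  rw [← slpModel_elt_old_word ruM0 ds RuM.pm chk_slp0 _ h1,
    ← slpModel_elt_old_word ruM0 ds RuM.pm chk_slp0 _ h2]
  apply factsC0.eq_of_ract_base
  intro b hb
  have h1' : ∀ l ∈ wA ++ wB, l < ruS0.nl := fun l hl => by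
    rw [ruS0_nl]; exact lt_trans (wAB_lt.1 l hl) (by decide)
  have h2' : ∀ l ∈ wB ++ wA, l < ruS0.nl := fun l hl => by
    rw [ruS0_nl]; exact lt_trans (wAB_lt.2 l hl) (by decide)
  have hb' : b < ruS0.n := factsC0.hbase b hb
  show ract ruS0 (ruS0.elt (wA ++ wB)) b = ract ruS0 (ruS0.elt (wB ++ wA)) b
  rw [ract_elt ruS0 _ h1' b hb', ract_elt ruS0 _ h2' b hb']
  have h := chk_baseAB
  simp only [List.all_eq_true, beq_iff_eq, wappS_eq] at h
  exact h b hb

theorem chk_codeAB : wcode (wA ++ wB) 0 = 1411 ∧ wcode (wB ++ wA) 0 = 1409 := by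
  constructor <;> decide +kernel

/-- the two elements -/
noncomputable def gA : G4 := wordProd [xG, yG] wA

noncomputable def gB : G4 := wordProd [xG, yG] wB

theorem gAB_eq : gA * gB = scal 2 * (gB * gA) := by
  have e1 : gA * gB = wordProd [xG, yG] (wA ++ wB) := (wordProd_append _ _ _).symm
  have e2 : gB * gA = wordProd [xG, yG] (wB ++ wA) := (wordProd_append _ _ _).symm
  have hr : rho (gA * gB) = rho (gB * gA) := by
    rw [e1, e2, rho_wordG _ wAB_lt.1, rho_wordG _ wAB_lt.2, elt_AB]
  have hk : (gA * gB) * (gB * gA)⁻¹ ∈ (rho.ker : Set G4) := by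
    show (gA * gB) * (gB * gA)⁻¹ ∈ rho.ker
    rw [MonoidHom.mem_ker, map_mul, map_inv, hr, mul_inv_cancel]
  rw [ker_rho] at hk
  obtain ⟨u, hu⟩ := hk
  have e3 : gA * gB = scal u * (gB * gA) := by
    rw [hu]
    group
  -- the value on the first vector
  have hv0 : (mvL 0 0).val = mvc 0 := rfl
  obtain ⟨a1, _⟩ := wordG_mvc (wA ++ wB) wAB_lt.1 (mvL 0 0) 0 (by norm_num) hv0
  obtain ⟨a2, _⟩ := wordG_mvc (wB ++ wA) wAB_lt.2 (mvL 0 0) 0 (by norm_num) hv0
  rw [chk_codeAB.1] at a1
  rw [chk_codeAB.2] at a2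
  have b1 : (gA * gB).val (mvL 0 0) = mvL ⟨352, by norm_num⟩ 3 := by
    apply Subtype.ext
    rw [e1, a1]
    rfl
  have b2 : (gB * gA).val (mvL 0 0) = mvL ⟨352, by norm_num⟩ 1 := by
    apply Subtype.ext
    rw [e2, a2]
    rfl
  have b3 : (gA * gB).val (mvL 0 0) = (scal u).val ((gB * gA).val (mvL 0 0)) := by
    rw [e3]
    rfl
  rw [b1, b2, scal_mvL] at b3
  have hfin : (3 : Fin 4) = u + 1 := (mvL_inj _ _ _ _ b3).2
  have hall : ∀ u' : Fin 4, (3 : Fin 4) = u' + 1 → u' = 2 := by decide
  have hu2 : u = 2 := hall u hfin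
  rw [e3, hu2]

theorem scal_two_mem : scal 2 ∈ commutator G4 := by
  have h : scal 2 = ⁅gA, gB⁆ := by
    rw [commutatorElement_def]
    rw [gAB_eq]
    group
  rw [h, commutator_def]
  exact Subgroup.commutator_mem_commutator (Subgroup.mem_top _) (Subgroup.mem_top _)

theorem scal_two_ne : scal 2 ≠ 1 := by
  intro h
  have h0 : scal 0 = 1 := by
    apply Subtype.ext
    apply Equiv.ext
    intro w
    apply Subtype.ext
    rw [scal_apply]
    rfl
  rw [← h0] at h
  have := scal_injective h
  revert this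
  decide

/-! ### The stem extension -/

/-- the action on the lines, as a homomorphism onto the group on 4060 points -/
noncomputable def rhoH : G4 →* ↥RuH :=
  rho.codRestrict RuH (fun g => by rw [← range_rho]; exact ⟨g, rfl⟩)

theorem rhoH_val (g : G4) : (rhoH g : P4060) = rho g := rfl

theorem rhoH_surjective : Function.Surjective rhoH := by
  intro y
  have : y.val ∈ rho.range := by rw [range_rho]; exact y.property
  obtain ⟨g, hg⟩ := this
  exact ⟨g, Subtype.ext hg⟩

theorem rhoH_ker : rhoH.ker ≤ Subgroup.center G4 := by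
  intro g hg
  rw [center_eq_ker, MonoidHom.mem_ker]
  rw [MonoidHom.mem_ker] at hg
  have := congrArg Subtype.val hg
  exact this

theorem RuH_perfect : commutator ↥RuH = ⊤ := by
  haveI := RuH_simple
  apply perfect_of_simple xH yH
  intro h
  apply not_comm_H
  exact congrArg Subtype.val h

/-- the stem extension -/
noncomputable def sigma0 : ↥(commutator G4) →* ↥RuH := rhoH.comp (commutator G4).subtype

theorem sigma0_stem : Cfsg.IsStemExtension sigma0 :=
  isStem_commutator rhoH rhoH_surjective rhoH_ker RuH_perfect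

theorem sigma0_ker_ne : ∃ z : sigma0.ker, z ≠ 1 := by
  refine ⟨⟨⟨scal 2, scal_two_mem⟩, ?_⟩, ?_⟩
  · rw [MonoidHom.mem_ker]
    apply Subtype.ext
    show rho (scal 2) = 1
    exact rho_scal 2
  · intro h
    apply scal_two_ne
    have := congrArg (fun z : sigma0.ker => ((z : ↥(commutator G4)) : G4)) h
    exact this

theorem card_G4 : Nat.card G4 = 145926144000 * 4 := by
  rw [Subgroup.card_eq_card_quotient_mul_card_subgroup (Subgroup.center G4), card_center]
  have h : Nat.card (G4 ⧸ Subgroup.center G4) = 145926144000 := card_Ru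
  rw [h]

instance finite_G4 : Finite G4 := Nat.finite_of_card_ne_zero (by rw [card_G4]; norm_num)

end Cfsg.Agent.Lib.Helper1.RuMu
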