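import Mathlib
import Cfsg.Agent.Lib.Helper1.RuMu.GC
import Cfsg.Agent.Lib.Helper1.RuMu.GE
import Cfsg.Agent.Lib.Helper1.Stem14

set_option autoImplicit false

/-! The Schur multiplier of the Rudvalis group is cyclic of order two. -/

namespace Cfsg.Agent.Lib.Helper1.RuMu

open Cfsg Cfsg.Spor Cfsg.Agent.Lib.Helper1 Cfsg.Agent.Lib.Helper1.RuM
  Cfsg.Agent.Lib.Helper1.RuLat Cfsg.Agent.Lib.Helper1.Ru

theorem exists_cover_Ru : ∃ (Γ₀ : Type) (_ : Group Γ₀) (_ : Finite Γ₀) (σ : Γ₀ →* ↥RuH),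
    Cfsg.IsStemExtension σ ∧ IsCyclic σ.ker ∧ Nat.card σ.ker = 2 := by
  refine ⟨↥(commutator G4), inferInstance, inferInstance, sigma0, sigma0_stem, ?_⟩
  have hh : IsCyclic sigma0.ker ∧ Nat.card sigma0.ker ∣ 2 :=
    hub_Ru ↥(commutator G4) sigma0 sigma0_stem
  obtain ⟨hc, hd⟩ := hh
  refine ⟨hc, ?_⟩
  have hle := Nat.le_of_dvd (by norm_num) hd
  have hpos : 0 < Nat.card sigma0.ker := Nat.card_pos
  have hne : Nat.card sigma0.ker ≠ 1 := by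
    intro h1
    obtain ⟨z, hz⟩ := sigma0_ker_ne
    haveI : Subsingleton sigma0.ker := (Nat.card_eq_one_iff_unique.mp h1).1
    exact hz (Subsingleton.elim _ _)
  omega

theorem main_Ru : Cfsg.HasCyclicSchurMultiplier Cfsg.Spor.Ru 2 :=
  Stem.hasCyclicSchurMultiplier_of_equiv Ru_equiv.symm 2 exists_cover_Ru
    (fun Γ _ _ σ hσ => hub_Ru Γ σ hσ)

end Cfsg.Agent.Lib.Helper1.RuMu
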